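import Groth.Prelude.Def_SekSuwa2
import Groth.Prelude.Def_AlgGrp
import Mathlib.AlgebraicGeometry.Group.Affine
import Mathlib.AlgebraicGeometry.Pullbacks

/-!
# The scheme-theoretic kernel of a homomorphism of affine groups
-/

set_option autoImplicit false
set_option backward.isDefEq.respectTransparency.types false

universe u

open CategoryTheory CategoryTheory.Limits AlgebraicGeometry MonoidalCategory MonObj CartesianMonoidalCategory

noncomputable section

namespace Groth.L08.SpecKernel

/-- The pushout `B → A`, `ε : B → R` is the quotient by the image of the augmentation ideal. -/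
theorem isPushout {R B A C : Type u} [CommRing R] [CommRing B] [CommRing A] [CommRing C] [Algebra R B]
    [Algebra R A] [Algebra R C] (f : B →ₐ[R] A) (ε : B →ₐ[R] R) (q : A →ₐ[R] C) (hq : Function.Surjective q)
    (hker : RingHom.ker q = (RingHom.ker ε).map (f : B →+* A)) :
    IsPushout (CommRingCat.ofHom (f : B →+* A)) (CommRingCat.ofHom (ε : B →+* R))
      (CommRingCat.ofHom (q : A →+* C)) (CommRingCat.ofHom (algebraMap R C)) := by
  have hfε : ∀ b, q (f b) = algebraMap R C (ε b) := fun b => by
    have h : f (b - algebraMap R B (ε b)) ∈ RingHom.ker q := by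
      rw [hker]
      exact Ideal.mem_map_of_mem _ (by simp [RingHom.mem_ker])
    rw [RingHom.mem_ker, map_sub, map_sub, AlgHom.commutes, AlgHom.commutes, sub_eq_zero] at h
    exact h
  refine ⟨⟨by ext b; exact hfε b⟩, ⟨PushoutCocone.IsColimit.mk _
    (fun s => CommRingCat.ofHom ((q : A →+* C).liftOfSurjective hq ⟨s.inl.hom, ?_⟩)) (fun s => ?_) (fun s => ?_)
    (fun s m h1 h2 => ?_)⟩⟩
  · show RingHom.ker q ≤ RingHom.ker s.inl.hom
    rw [hker, Ideal.map_le_iff_le_comap]
    intro b hb
    have h := congr(($(s.condition)).hom b)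
    simp only [CommRingCat.hom_comp, RingHom.comp_apply, CommRingCat.hom_ofHom] at h
    rw [Ideal.mem_comap, RingHom.mem_ker]
    refine h.trans ?_
    rw [show (ε : B →+* R) b = 0 from hb, map_zero]
  · ext a
    exact RingHom.liftOfSurjective_comp_apply (q : A →+* C) hq _ a
  · ext r
    show RingHom.liftOfSurjective (q : A →+* C) hq _ (algebraMap R C r) = _
    rw [← AlgHom.commutes q r]
    refine (RingHom.liftOfSurjective_comp_apply (q : A →+* C) hq _ _).trans ?_
    have h := congr(($(s.condition)).hom (algebraMap R B r))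
    simp only [CommRingCat.hom_comp, RingHom.comp_apply, CommRingCat.hom_ofHom] at h
    rw [show (f : B →+* A) (algebraMap R B r) = algebraMap R A r from f.commutes r,
      show (ε : B →+* R) (algebraMap R B r) = r from ε.commutes r] at h
    exact h
  · ext c
    obtain ⟨a, rfl⟩ := hq c
    refine Eq.trans ?_ (RingHom.liftOfSurjective_comp_apply (q : A →+* C) hq _ a).symm
    exact congr(($h1).hom a)

/-- `Spec (A / f(ker ε) A)` is the kernel of `Spec f`. -/
theorem isKernel {R : Type u} [CommRing R] {B A C : Type u} [CommRing B] [CommRing A] [CommRing C]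
    [HopfAlgebra R B] [HopfAlgebra R A] [HopfAlgebra R C] (f : B →ₐc[R] A) (q : A →ₐc[R] C)
    (hq : Function.Surjective q)
    (hker : RingHom.ker (q : A →ₐ[R] C) = (RingHom.ker (Bialgebra.counitAlgHom R B)).map (f : B →+* A)) :
    AlgGrp.IsKernel (SekSuwa.specHom q) (SekSuwa.specHom f) := by
  have hp := isPullback_SpecMap_of_isPushout _ _ _ _
    (isPushout (f : B →ₐ[R] A) (Bialgebra.counitAlgHom R B) (q : A →ₐ[R] C) hq hker)
  refine IsPullback.of_map (Over.forget _) (Over.OverMorphism.ext ?_) ?_
  · rw [Over.comp_left, Over.comp_left, SekSuwa.specHom_left, SekSuwa.specHom_left, one_spec_asOver_spec_left]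
    have hu : (toUnit ((Spec (CommRingCat.of C)).asOver (Spec (CommRingCat.of R)))).left =
        Spec.map (CommRingCat.ofHom (algebraMap R C)) := by
      rw [← Category.comp_id (toUnit ((Spec (CommRingCat.of C)).asOver (Spec (CommRingCat.of R)))).left]
      exact Over.w (toUnit ((Spec (CommRingCat.of C)).asOver (Spec (CommRingCat.of R))))
    rw [hu]
    exact hp.w
  · exact hp

end Groth.L08.SpecKernel
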