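import Groth.Prelude.Def_SekSuwa2
import Groth.Prelude.Def_AlgGrp
import Groth.Prelude.Def_Mor2
import Mathlib.RingTheory.AdjoinRoot
import Mathlib.RingTheory.Finiteness.ModuleFinitePresentation
import Mathlib.RingTheory.Spectrum.Prime.FreeLocus
import Mathlib.AlgebraicGeometry.Morphisms.FlatRank
import Mathlib.AlgebraicGeometry.Group.Affine

/-!
# `G_{λ,N}` is finite locally free of degree `N` and is the kernel of `ψ`
-/

set_option autoImplicit false

universe u

open Polynomial CategoryTheory AlgebraicGeometry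

noncomputable section

namespace Groth.L08.SekSuwaGK

variable {R : Type u} [CommRing R] {lam : R} {N : ℕ} (h : SekSuwa.DivCond lam N)

theorem coeff_eq {n : ℕ} : lam ^ N * (SekSuwa.psiPoly lam N h).coeff n + (if n = 0 then 1 else 0) = lam ^ n * (N.choose n : R) := by
  have e := congrArg (fun q => coeff q n) (SekSuwa.psiPoly_spec h)
  simp only [coeff_C_mul, coeff_sub, coeff_one] at e
  rw [e]
  have hb : ((1 + C lam * X : R[X]) ^ N).coeff n = lam ^ n * (N.choose n : R) := by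
    have : (1 + C lam * X : R[X]) = ((1 + X : R[X]).comp (C lam * X)) := by simp
    rw [this, ← pow_comp, comp_C_mul_X_coeff, coeff_one_add_X_pow, mul_comm]
  rw [hb]
  ring

theorem natDegree_le : (SekSuwa.psiPoly lam N h).natDegree ≤ N :=
  natDegree_le_iff_coeff_eq_zero.2 fun n hn => by
    have e := coeff_eq h (n := n)
    rw [if_neg (by omega), Nat.choose_eq_zero_of_lt hn, Nat.cast_zero, mul_zero, add_zero] at e
    exact SekSuwa.cancel_nzd h.pow_nzd (e.trans (mul_zero _).symm)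

theorem coeff_top (hN : 0 < N) : (SekSuwa.psiPoly lam N h).coeff N = 1 := by
  have e := coeff_eq h (n := N)
  rw [if_neg hN.ne', Nat.choose_self, Nat.cast_one, add_zero] at e
  exact SekSuwa.cancel_nzd h.pow_nzd e

theorem monic (hN : 0 < N) : (SekSuwa.psiPoly lam N h).Monic :=
  monic_of_natDegree_le_of_coeff_eq_one N (natDegree_le h) (coeff_top h hN)

theorem natDegree_eq [Nontrivial R] (hN : 0 < N) : (SekSuwa.psiPoly lam N h).natDegree = N :=
  natDegree_eq_of_le_of_coeff_ne_zero (natDegree_le h) (by rw [coeff_top h hN]; exact one_ne_zero)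

/-- `inv` is a power of `1 + λ t`. -/
theorem inv_eq (hN : 0 < N) :
    (SekSuwa.AK.inv : SekSuwa.AK R lam N h) = (1 + lam • SekSuwa.AK.t) ^ (N - 1) := by
  have e1 : (1 + lam • (SekSuwa.AK.t : SekSuwa.AK R lam N h)) * SekSuwa.AK.inv = 1 := by
    have := congrArg (SekSuwa.AK.mkHom R lam N h) (SekSuwa.A.u_mul_inv (R := R) (lam := lam))
    rw [map_mul, map_one, SekSuwa.A.u, map_add, map_one, map_smul] at this
    exact this
  have hs : (1 + lam • (SekSuwa.AK.t : SekSuwa.AK R lam N h)) ^ N =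
      (1 + lam • SekSuwa.AK.t) ^ (N - 1) * (1 + lam • SekSuwa.AK.t) := by
    rw [← pow_succ, Nat.sub_add_cancel hN]
  calc (SekSuwa.AK.inv : SekSuwa.AK R lam N h) = (1 + lam • SekSuwa.AK.t) ^ N * SekSuwa.AK.inv := by
        rw [SekSuwa.AK.u_pow, one_mul]
    _ = _ := by rw [hs, mul_assoc, e1, mul_one]

theorem root_rel (hN : 0 < N) :
    (1 + lam • AdjoinRoot.root (SekSuwa.psiPoly lam N h)) *
      (1 + lam • AdjoinRoot.root (SekSuwa.psiPoly lam N h)) ^ (N - 1) = 1 := by
  rw [← pow_succ', Nat.sub_add_cancel hN]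
  have e := SekSuwa.aeval_psiPoly h (AdjoinRoot.root (SekSuwa.psiPoly lam N h))
  rw [AdjoinRoot.aeval_eq, AdjoinRoot.mk_self, mul_zero, ← Algebra.smul_def] at e
  exact sub_eq_zero.1 e.symm

/-- The comparison with `R[X]/(P)`, one direction. -/
def toRoot (hN : 0 < N) : SekSuwa.AK R lam N h →ₐ[R] AdjoinRoot (SekSuwa.psiPoly lam N h) :=
  Ideal.Quotient.liftₐ (SekSuwa.kerIdeal lam N h)
    (SekSuwa.A.lift R lam (AdjoinRoot.root (SekSuwa.psiPoly lam N h))
      ((1 + lam • AdjoinRoot.root (SekSuwa.psiPoly lam N h)) ^ (N - 1)) (root_rel h hN)) (by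
    intro z hz
    obtain ⟨w, rfl⟩ := Ideal.mem_span_singleton'.1 hz
    rw [map_mul, SekSuwa.kerGen, ← Polynomial.aeval_algHom_apply, SekSuwa.A.lift_t, AdjoinRoot.aeval_eq,
      AdjoinRoot.mk_self, mul_zero])

theorem toRoot_t (hN : 0 < N) : toRoot h hN SekSuwa.AK.t = AdjoinRoot.root (SekSuwa.psiPoly lam N h) :=
  SekSuwa.A.lift_t _ _ (root_rel h hN)

theorem toRoot_inv (hN : 0 < N) :
    toRoot h hN SekSuwa.AK.inv = (1 + lam • AdjoinRoot.root (SekSuwa.psiPoly lam N h)) ^ (N - 1) :=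
  SekSuwa.A.lift_inv _ _ (root_rel h hN)

/-- `R[X]/(P) ≅ AK`. -/
def rootEquiv (hN : 0 < N) : SekSuwa.AK R lam N h ≃ₐ[R] AdjoinRoot (SekSuwa.psiPoly lam N h) :=
  AlgEquiv.ofAlgHom (toRoot h hN)
    (AdjoinRoot.liftAlgHom _ (Algebra.ofId R _) (SekSuwa.AK.t : SekSuwa.AK R lam N h) (SekSuwa.AK.aeval_t (h := h)))
    (AdjoinRoot.algHom_ext (by
      rw [AlgHom.comp_apply, AdjoinRoot.liftAlgHom_root, toRoot_t]
      rfl))
    (SekSuwa.AK.algHom_ext (by rw [AlgHom.comp_apply, toRoot_t, AdjoinRoot.liftAlgHom_root]; rfl) (by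
      rw [AlgHom.comp_apply, toRoot_inv, map_pow, map_add, map_one, map_smul, AdjoinRoot.liftAlgHom_root]
      exact (inv_eq h hN).symm))

include h in
theorem module_free (hN : 0 < N) : Module.Free R (SekSuwa.AK R lam N h) ∧ Module.Finite R (SekSuwa.AK R lam N h) :=
  let b := (AdjoinRoot.powerBasis' (monic h hN)).basis.map (rootEquiv h hN).symm.toLinearEquiv
  ⟨Module.Free.of_basis b, Module.Finite.of_basis b⟩

theorem finrank_eq [Nontrivial R] (hN : 0 < N) : Module.finrank R (SekSuwa.AK R lam N h) = N := by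
  rw [(rootEquiv h hN).toLinearEquiv.finrank_eq, (AdjoinRoot.powerBasis' (monic h hN)).finrank,
    AdjoinRoot.powerBasis'_dim, natDegree_eq h hN]

theorem isFinLocFreeOfDeg (hN : 0 < N) : Mor2.IsFinLocFreeOfDeg N (SekSuwa.GK R lam N h).hom := by
  obtain ⟨h1, h2⟩ := module_free h hN
  have hhom : (SekSuwa.GK R lam N h).hom = Spec.map (CommRingCat.ofHom (algebraMap R (SekSuwa.AK R lam N h))) := rfl
  rw [hhom]
  haveI := Module.finitePresentation_of_projective R (SekSuwa.AK R lam N h)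
  refine ⟨⟨(IsFinite.SpecMap_iff _).mpr (RingHom.finite_algebraMap.mpr h2),
    Flat.SpecMap_iff.mpr (RingHom.flat_algebraMap_iff.mpr inferInstance),
    (HasRingHomProperty.Spec_iff (P := @LocallyOfFinitePresentation)).mpr
      (RingHom.finitePresentation_algebraMap.mpr inferInstance)⟩, fun p => ?_⟩
  haveI : Nontrivial R := ⟨⟨0, 1, fun e => p.2.ne_top ((Ideal.eq_top_iff_one _).2 (e ▸ p.asIdeal.zero_mem))⟩⟩
  refine (Scheme.Hom.finrank_SpecMap_algebraMap R (SekSuwa.AK R lam N h) p).trans ?_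
  rw [Module.rankAtStalk_eq_finrank_of_free]
  exact finrank_eq h hN

end Groth.L08.SekSuwaGK
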