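import Groth.Agent.L08.SekSuwa.Shear
import Groth.Agent.L08.HopfImage
import Mathlib.RingTheory.Spectrum.Prime.FreeLocus
import Mathlib.RingTheory.LocalRing.Module
import Mathlib.RingTheory.Artinian.Module
import Mathlib.RingTheory.Spectrum.Prime.RingHom

/-!
# The index formula for finite commutative Hopf algebras over a field
-/

set_option autoImplicit false
set_option maxSynthPendingDepth 3

universe u

open TensorProduct

namespace Groth.L08.Index

variable {k : Type u} [Field k] {A B : Type u} [CommRing A] [HopfAlgebra k A] [CommRing B] [HopfAlgebra k B]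

/-- `dim A = dim B · dim A/B⁺A`. -/
theorem finrank_eq_mul [Module.Finite k A] [Module.Finite k B] (φ : B →ₐc[k] A) (hφ : Function.Injective φ) :
    Module.finrank k A = Module.finrank k B *
      Module.finrank k (A ⧸ (RingHom.ker (Bialgebra.counitAlgHom k B)).map (φ : B →+* A)) := by
  classical
  haveI : Algebra.FiniteType k A := inferInstance
  letI : Algebra B A := (φ : B →+* A).toAlgebra
  haveI : IsScalarTower k B A := IsScalarTower.of_algebraMap_eq fun r => (AlgHomClass.commutes φ r).symm
  haveI : Module.FaithfullyFlat B A := HopfImage.faithfullyFlat_of_injective φ hφ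
  haveI : Module.Finite B A := Module.Finite.of_restrictScalars_finite k B A
  haveI : IsArtinianRing B := isArtinian_of_tower k inferInstance
  let C := A ⧸ (RingHom.ker (Bialgebra.counitAlgHom k B)).map (algebraMap B A)
  haveI : Module.Finite k C := inferInstanceAs (Module.Finite k (A ⧸ _))
  obtain ⟨e⟩ := Shear.exists_shear φ (fun _ => rfl)
  have hrank : ∀ q : PrimeSpectrum B, Module.rankAtStalk (R := B) A q = Module.finrank k C := by
    intro q
    obtain ⟨Q, rfl⟩ := PrimeSpectrum.comap_surjective_of_faithfullyFlat (B := A) q
    rw [← Module.rankAtStalk_baseChange (S := A) Q, Module.rankAtStalk_eq_of_equiv e.toLinearEquiv]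
    rw [Module.rankAtStalk_baseChange (R := k) (S := A) Q, Module.rankAtStalk_eq_finrank_of_free]
    rfl
  have hfp : Module.FinitePresentation B A := Module.finitePresentation_of_finite B A
  haveI : Module.Projective B A := Module.Flat.projective_of_finitePresentation
  haveI : Module.Free B A := by
    refine Module.free_of_flat_of_finrank_eq B A (Module.finrank k C) fun P => ?_
    letI := Ideal.Quotient.field P.1
    rw [← hrank ⟨P.1, inferInstance⟩]
    have h := Module.rankAtStalk_baseChange (R := B) (M := A) (S := B ⧸ P.1) default
    rw [Module.rankAtStalk_eq_finrank_of_free] at h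
    refine h.trans (congrArg _ (PrimeSpectrum.ext ?_))
    show Ideal.comap (Ideal.Quotient.mk P.1) (default : PrimeSpectrum (B ⧸ P.1)).asIdeal = P.1
    rw [show (default : PrimeSpectrum (B ⧸ P.1)).asIdeal = ⊥ from
      (Ideal.eq_bot_or_top _).resolve_right (default : PrimeSpectrum (B ⧸ P.1)).2.ne_top]
    exact Ideal.mk_ker
  haveI : Nontrivial B := (Bialgebra.counitAlgHom k B).toRingHom.domain_nontrivial
  have hB : Module.finrank B A = Module.finrank k C := by
    obtain ⟨m, hm⟩ := Ideal.exists_maximal B
    rw [← hrank ⟨m, hm.isPrime⟩, Module.rankAtStalk_eq_finrank_of_free]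
    rfl
  rw [← Module.finrank_mul_finrank k B A, hB]
  rfl

end Groth.L08.Index
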