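import Groth.Agent.L08.SekSuwa.PrimeOrder
import Groth.Agent.L08.ActSepOrbit
import Groth.Prelude.Def_TwC
import Groth.Prelude.Def_ActBC
import Mathlib.AlgebraicGeometry.Group.Affine

/-!
# The `ℤ/p`-points of a finite flat model
-/

set_option autoImplicit false
set_option backward.isDefEq.respectTransparency.types false
set_option maxSynthPendingDepth 3

universe u

open CategoryTheory CategoryTheory.Limits AlgebraicGeometry MonoidalCategory MonObj CartesianMonoidalCategory
open TensorProduct WithConv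

noncomputable section

namespace Groth.L08.SekSuwaPrime

variable {R : CommRingCat.{u}} (K : Type u) [Field K] [Algebra R K]

/-- The constant scheme on a finite type is the spectrum of a product. -/
def constSpecIso (M : Type) [Finite M] :
    (∐ fun _ : M => Spec (CommRingCat.of K)) ≅ Spec (CommRingCat.of (ULift.{u} M → K)) :=
  (Sigma.reindex Equiv.ulift.{u} (fun _ : M => Spec (CommRingCat.of K))).symm ≪≫
    (haveI : Finite (ULift.{u} M) := inferInstance
     asIso (sigmaSpec fun _ : ULift.{u} M => CommRingCat.of K))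

@[reassoc]
theorem ι_constSpecIso (M : Type) [Finite M] (m : M) :
    Sigma.ι (fun _ : M => Spec (CommRingCat.of K)) m ≫ (constSpecIso K M).hom =
      Spec.map (CommRingCat.ofHom (Pi.evalRingHom (fun _ : ULift.{u} M => K) ⟨m⟩)) := by
  have h := Sigma.ι_reindex_hom Equiv.ulift.{u} (fun _ : M => Spec (CommRingCat.of K)) ⟨m⟩
  have h' : Sigma.ι (fun _ : M => Spec (CommRingCat.of K)) m ≫
      (Sigma.reindex Equiv.ulift.{u} (fun _ : M => Spec (CommRingCat.of K))).inv =
      Sigma.ι ((fun _ : M => Spec (CommRingCat.of K)) ∘ Equiv.ulift.{u}) ⟨m⟩ :=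
    (Iso.comp_inv_eq _).2 h.symm
  simp only [constSpecIso, Iso.trans_hom, Iso.symm_hom, reassoc_of% h', asIso_hom]
  exact ι_sigmaSpec (fun _ : ULift.{u} M => CommRingCat.of K) ⟨m⟩

variable (A : Type u) [CommRing A] [HopfAlgebra R A]

/-- The spectrum of the Hopf algebra. -/
abbrev specA : Over (Spec R) := (Spec (CommRingCat.of A)).asOver (Spec R)

/-- The map to the generic point. -/
abbrev specK : Spec (CommRingCat.of K) ⟶ Spec R := Spec.map (CommRingCat.ofHom (algebraMap R K))

/-- The coordinate ring of the generic fibre. -/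
def bcSpecIso : (Red.bc (specK (R := R) K) (specA A)).left ≅ Spec (CommRingCat.of (A ⊗[R] K)) :=
  pullbackSpecIso R A K

theorem exists_points {M : Type} [Group M] [Finite M] (e : Red.bc (specK (R := R) K) (specA A) ≅ TwC.const (Spec (CommRingCat.of K)) M)
    (he : TwC.IsConstGrp M (Red.bc (specK (R := R) K) (specA A)) e) :
    ∃ (Φ : A ⊗[R] K ≃+* (ULift.{u} M → K)) (Q : M → (A →ₐ[R] K)),
      (∀ m a, Q m a = Φ (a ⊗ₜ 1) ⟨m⟩) ∧ (∀ m x, Φ (1 ⊗ₜ x) ⟨m⟩ = x) ∧
      ∀ m n, toConv (Q m) * toConv (Q n) = toConv (Q (m * n)) := by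
  classical
  haveI : IsIso e.inv.left := inferInstanceAs (IsIso ((Over.forget _).map e.inv))
  let σ : Spec (CommRingCat.of (ULift.{u} M → K)) ≅ Spec (CommRingCat.of (A ⊗[R] K)) :=
    (constSpecIso K M).symm ≪≫ asIso e.inv.left ≪≫ bcSpecIso K A
  let Φ : A ⊗[R] K ≃+* (ULift.{u} M → K) :=
    (Spec.fullyFaithful.preimageIso σ).unop.commRingCatIsoToRingEquiv
  have hΦ : Spec.map (CommRingCat.ofHom (Φ : A ⊗[R] K →+* (ULift.{u} M → K))) = σ.hom := by
    show Spec.map (Spec.fullyFaithful.preimageIso σ).hom.unop = σ.hom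
    exact Spec.fullyFaithful.map_preimage σ.hom
  have hcomp : ∀ m : M, Spec.map (CommRingCat.ofHom ((Pi.evalRingHom (fun _ : ULift.{u} M => K) ⟨m⟩).comp
      (Φ : A ⊗[R] K →+* (ULift.{u} M → K)))) =
      Sigma.ι (fun _ : M => Spec (CommRingCat.of K)) m ≫ e.inv.left ≫ (bcSpecIso K A).hom := fun m => by
    rw [CommRingCat.ofHom_comp, Spec.map_comp, hΦ, ← ι_constSpecIso]
    simp [σ]
  have hsnd : ∀ m x, Φ (1 ⊗ₜ x) ⟨m⟩ = x := fun m x => by
    have h := congrArg (fun f => f ≫ Spec.map (CommRingCat.ofHom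
      (Algebra.TensorProduct.includeRight (R := R) (A := A) (B := K)).toRingHom)) (hcomp m)
    simp only [Category.assoc] at h
    erw [pullbackSpecIso_hom_snd] at h
    have h2 : e.inv.left ≫ pullback.snd (specA A).hom (specK K) = (TwC.const (Spec (CommRingCat.of K)) M).hom :=
      Over.w e.inv
    erw [h2] at h
    simp only [Over.mk_hom, Sigma.ι_desc] at h
    rw [← Spec.map_comp, ← Spec.map_id] at h
    exact congr(($(Spec.map_injective h)).hom x)
  let Q : M → (A →ₐ[R] K) := fun m =>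
    { (((Pi.evalRingHom (fun _ : ULift.{u} M => K) ⟨m⟩).comp (Φ : A ⊗[R] K →+* (ULift.{u} M → K))).comp
        Algebra.TensorProduct.includeLeftRingHom) with
      commutes' := fun r => by
        show Φ (algebraMap R A r ⊗ₜ 1) ⟨m⟩ = algebraMap R K r
        rw [Algebra.algebraMap_eq_smul_one, smul_tmul, ← Algebra.algebraMap_eq_smul_one, hsnd] }
  refine ⟨Φ, Q, fun m a => rfl, hsnd, fun m n => ?_⟩
  have hdir : ∀ m, Spec.map (CommRingCat.ofHom (Q m).toRingHom) =
      (TwC.pt (Spec (CommRingCat.of K)) M m ≫ e.inv).left ≫ pullback.fst (specA A).hom (specK K) := fun m => by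
    show Spec.map (CommRingCat.ofHom (((Pi.evalRingHom (fun _ : ULift.{u} M => K) ⟨m⟩).comp
      (Φ : A ⊗[R] K →+* (ULift.{u} M → K))).comp Algebra.TensorProduct.includeLeftRingHom)) = _
    rw [CommRingCat.ofHom_comp, Spec.map_comp, hcomp]
    simp only [Category.assoc]
    erw [pullbackSpecIso_hom_fst]
    rfl
  let f := specK (R := R) K
  let T₀ : Over (Spec R) := (Over.map f).obj (𝟙_ (Over (Spec (CommRingCat.of K))))
  let j : (Spec (CommRingCat.of K)).asOver (Spec R) ⟶ T₀ :=
    Over.homMk (𝟙 _) (by show 𝟙 _ ≫ 𝟙 _ ≫ f = _; simp; rfl)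
  let h := (Over.mapPullbackAdj f).homEquiv (𝟙_ (Over (Spec (CommRingCat.of K)))) (specA A)
  have hQ : ∀ m, Spec.mapMulEquiv (toConv (Q m)) = j ≫ h.symm (TwC.pt (Spec (CommRingCat.of K)) M m ≫ e.inv) := fun m => by
    apply Over.OverMorphism.ext
    have e1 := Groth.L08.ActSep.he_fst f (h.symm (TwC.pt (Spec (CommRingCat.of K)) M m ≫ e.inv))
    rw [Equiv.apply_symm_apply] at e1
    show Spec.map (CommRingCat.ofHom (Q m).toRingHom) = 𝟙 _ ≫ (h.symm (TwC.pt (Spec (CommRingCat.of K)) M m ≫ e.inv)).left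
    rw [hdir, Category.id_comp]
    exact e1
  have hmulh : ∀ x y, h.symm (x * y) = h.symm x * h.symm y := fun x y =>
    h.injective (by rw [Equiv.apply_symm_apply, AlgGrp.Action.homEquiv_mul, Equiv.apply_symm_apply,
      Equiv.apply_symm_apply])
  refine Spec.mapMulEquiv.injective ?_
  rw [map_mul, hQ, hQ, hQ, ← he, hmulh, MonObj.comp_mul]

end Groth.L08.SekSuwaPrime
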