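import Groth.Agent.L08.SekSuwa.Models
import Groth.Agent.L08.SekSuwa.PrimeScheme
import Mathlib.AlgebraicGeometry.Morphisms.FlatRank
import Mathlib.AlgebraicGeometry.Morphisms.Finite
import Mathlib.RingTheory.IntegralClosure.IntegrallyClosed

/-!
# Finite flat models of constant groups as Hopf algebras
-/

set_option autoImplicit false
set_option backward.isDefEq.respectTransparency.types false
set_option maxSynthPendingDepth 3

universe u

open CategoryTheory CategoryTheory.Limits AlgebraicGeometry MonoidalCategory MonObj CartesianMonoidalCategory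
open TensorProduct

noncomputable section

namespace Groth.L08.Models

/-- A finite flat group with constant generic fibre is the spectrum of a model. -/
theorem exists_model {R : Type u} [CommRing R] [IsDomain R] [IsDiscreteValuationRing R]
    (G : Over (Spec (CommRingCat.of R))) [GrpObj G] [IsFinite G.hom] [Flat G.hom] {M : Type} [Group M] [Finite M]
    (e : Red.bc (Spec.map (CommRingCat.ofHom (algebraMap R (FractionRing R)))) G ≅
      TwC.const (Spec (CommRingCat.of (FractionRing R))) M)
    (he : TwC.IsConstGrp M (Red.bc (Spec.map (CommRingCat.ofHom (algebraMap R (FractionRing R)))) G) e) :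
    ∃ (A : Type u) (_ : CommRing A) (_ : HopfAlgebra R A) (P : M → (A →ₐ[R] R))
      (φ : (Spec (CommRingCat.of A)).asOver (Spec (CommRingCat.of R)) ⟶ G),
      IsMonHom φ ∧ IsIso φ ∧ IsModel R A P ∧
      ∀ x, Scheme.Hom.finrank G.hom x = Nat.card M := by
  classical
  haveI : IsAffine G.left := isAffine_of_isAffineHom G.hom
  obtain ⟨H, ⟨eH⟩⟩ := (essImage_hopfSpec (G := Grp.mk G)).mpr ‹IsAffine G.left›
  let A := H.unop
  let X : Over (Spec (CommRingCat.of R)) := (Spec (CommRingCat.of A)).asOver (Spec (CommRingCat.of R))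
  let φ : X ⟶ G := eH.hom.hom.hom
  let ψ : G ⟶ X := eH.inv.hom.hom
  have h1 : φ ≫ ψ = 𝟙 X := congrArg (fun f => f.hom.hom) eH.hom_inv_id
  have h2 : ψ ≫ φ = 𝟙 G := congrArg (fun f => f.hom.hom) eH.inv_hom_id
  haveI hφm : IsMonHom φ := eH.hom.hom.isMonHom_hom
  haveI : IsMonHom ψ := eH.inv.hom.isMonHom_hom
  haveI hφi : IsIso φ := ⟨ψ, h1, h2⟩
  haveI : IsIso φ.left := inferInstanceAs (IsIso ((Over.forget _).map φ))
  have hX : X.hom = Spec.map (CommRingCat.ofHom (algebraMap R A)) := rfl
  have hw : φ.left ≫ G.hom = X.hom := Over.w φ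
  haveI hf : IsFinite X.hom := hw ▸ inferInstance
  haveI hfl : Flat X.hom := hw ▸ inferInstance
  rw [hX] at hf hfl
  haveI : Module.Finite R A := RingHom.finite_algebraMap.mp ((IsFinite.SpecMap_iff _).mp hf)
  haveI : Module.Flat R A := RingHom.flat_algebraMap_iff.mp (Flat.SpecMap_iff.mp hfl)
  haveI : Module.Free R A := Module.free_of_flat_of_isLocalRing
  let f := Spec.map (CommRingCat.ofHom (algebraMap R (FractionRing R)))
  let e' : Red.bc f X ≅ TwC.const (Spec (CommRingCat.of (FractionRing R))) M :=
    (Over.pullback f).mapIso ⟨φ, ψ, h1, h2⟩ ≪≫ e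
  have he' : TwC.IsConstGrp M (Red.bc f X) e' := fun m n => by
    have hm := he m n
    simp only [e', Iso.trans_inv, Functor.mapIso_inv, ← Category.assoc]
    rw [← MonObj.mul_comp, hm]
  obtain ⟨Φ, Q, hQ, hΦ, hQmul⟩ :=
    Groth.L08.SekSuwaPrime.exists_points (R := CommRingCat.of R) (FractionRing R) A (M := M) e' he'
  have hint : ∀ m a, ∃ r, algebraMap R (FractionRing R) r = Q m a := fun m a =>
    IsIntegrallyClosed.isIntegral_iff.1 ((Algebra.IsIntegral.isIntegral (R := R) a).map (Q m))
  choose P₀ hP₀ using hint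
  have hR := IsFractionRing.injective R (FractionRing R)
  let P : M → (A →ₐ[R] R) := fun m =>
    { toFun := P₀ m
      map_one' := hR (by rw [hP₀, map_one, map_one])
      map_mul' := fun x y => hR (by rw [hP₀, map_mul, map_mul, hP₀, hP₀])
      map_zero' := hR (by rw [hP₀, map_zero, map_zero])
      map_add' := fun x y => hR (by rw [hP₀, map_add, map_add, hP₀, hP₀])
      commutes' := fun r => hR (by rw [hP₀, AlgHom.commutes]; rfl) }
  have hP : ∀ i, (Algebra.ofId R (FractionRing R)).comp (P i) = Q i := fun i => AlgHom.ext fun a => hP₀ _ a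
  have hinj : ∀ a, (∀ i, P i a = 0) → a = 0 := by
    intro a ha
    refine Algebra.TensorProduct.includeLeft_injective (S := R) (B := FractionRing R) hR ?_
    rw [map_zero, Algebra.TensorProduct.includeLeft_apply]
    refine Φ.injective ?_
    rw [map_zero]
    funext ⟨m⟩
    rw [← hQ, ← hP₀, show P₀ m a = P m a from rfl, ha, map_zero]
    rfl
  let L : (FractionRing R) ⊗[R] A ≃ₐ[FractionRing R] (ULift.{u} M → FractionRing R) :=
    AlgEquiv.ofRingEquiv (f := (Algebra.TensorProduct.comm R (FractionRing R) A).toRingEquiv.trans Φ) fun c => by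
      funext ⟨m⟩
      show Φ ((1 : A) ⊗ₜ c) ⟨m⟩ = c
      exact hΦ m c
  have hrank : Module.finrank R A = Nat.card M := by
    haveI := Fintype.ofFinite M
    rw [← Module.finrank_baseChange (R := FractionRing R) (S := R) (M' := A), L.toLinearEquiv.finrank_eq,
      Module.finrank_pi, Nat.card_eq_fintype_card, Fintype.card_ulift]
  have hmul : ∀ i j, WithConv.toConv (P i) * WithConv.toConv (P j) = WithConv.toConv (P (i * j)) := fun i j => by
    have h := hQmul i j
    rw [← hP, ← hP, ← hP] at h
    refine WithConv.ofConv_injective (AlgHom.ext fun a => hR ?_)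
    have ha := congrArg (fun g : WithConv (A →ₐ[R] FractionRing R) => g.ofConv a) h
    simp only [AlgHom.convMul_apply] at ha ⊢
    refine Eq.trans ?_ ha
    induction CoalgebraStruct.comul (R := R) a using TensorProduct.induction_on with
    | zero => simp
    | tmul x y => simp [Algebra.ofId_apply]
    | add x y hx hy => simp only [map_add, hx, hy]
  refine ⟨A, inferInstance, inferInstance, P, φ, hφm, hφi, ⟨inferInstance, inferInstance, hinj, hrank, hmul⟩,
    fun x => ?_⟩
  have h3 : Scheme.Hom.finrank X.hom x = Scheme.Hom.finrank G.hom x := by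
    rw [← hw, Scheme.Hom.finrank_comp_left_of_isIso]
  rw [← h3, ← hrank]
  refine (Scheme.Hom.finrank_SpecMap_algebraMap R A x).trans ?_
  rw [Module.rankAtStalk_eq_finrank_of_free]
  rfl

end Groth.L08.Models
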