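import Groth.Agent.L08.SekSuwa.SubHopf
import Groth.Agent.L08.SekSuwa.Index
import Mathlib.RingTheory.DiscreteValuationRing.Basic
import Mathlib.LinearAlgebra.FreeModule.PID
import Mathlib.LinearAlgebra.TensorProduct.Basis
import Mathlib.LinearAlgebra.Matrix.ToLinearEquiv
import Mathlib.RingTheory.LocalRing.Module
import Mathlib.RingTheory.HopfAlgebra.Quotient
import Mathlib.RingTheory.OrzechProperty
import Mathlib.GroupTheory.Coset.Card
import Mathlib.RingTheory.HopfAlgebra.TensorProduct
import Mathlib.LinearAlgebra.Dimension.Constructions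

/-!
# Models of constant groups over a discrete valuation ring: subgroups and quotients

A *model* of a finite group `M` is a finite free Hopf algebra `A` of rank `|M|` with a separating family of
points forming the group `M`.  For a normal subgroup `N` the scheme closure of `N` is a model of `N`, the
invariants form a model of `M/N`, and the first is the kernel of the map to the second.
-/

set_option autoImplicit false
set_option maxSynthPendingDepth 3

universe u

open TensorProduct WithConv

noncomputable section

namespace Groth.L08.Models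

variable (R : Type u) [CommRing R] (A : Type u) [CommRing A] [HopfAlgebra R A]

/-- A family of points making `A` a model of the constant group `M`. -/
structure IsModel {M : Type} [Group M] (P : M → (A →ₐ[R] R)) : Prop where
  finite : Module.Finite R A
  free : Module.Free R A
  inj : ∀ a, (∀ m, P m a = 0) → a = 0
  rank : Module.finrank R A = Nat.card M
  mul : ∀ m n, toConv (P m) * toConv (P n) = toConv (P (m * n))

variable {R A}

section algebra

variable {C : Type u} [CommRing C] [Algebra R C] [Module.Flat R C] {ι : Type} [Finite ι]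
  (P : ι → (C →ₐ[R] R))

/-- Separating points separate `C ⊗ C`. -/
theorem tensor_ext (hinj : ∀ a, (∀ i, P i a = 0) → a = 0) {x y : C ⊗[R] C}
    (h : ∀ i j, Algebra.TensorProduct.lift (P i) (P j) (fun _ _ => Commute.all _ _) x =
      Algebra.TensorProduct.lift (P i) (P j) (fun _ _ => Commute.all _ _) y) : x = y := by
  classical
  haveI := Fintype.ofFinite ι
  let f : C →ₗ[R] (ι → R) := LinearMap.pi fun i => (P i).toLinearMap
  have hf : Function.Injective f := by
    rw [← LinearMap.ker_eq_bot, LinearMap.ker_eq_bot']
    exact fun a ha => hinj a fun i => congrFun ha i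
  have hff : Function.Injective (TensorProduct.map f f) :=
    TensorProduct.map_injective_of_flat_flat f f hf hf
  apply hff
  let b := (Pi.basisFun R ι).tensorProduct (Pi.basisFun R ι)
  refine b.ext_elem fun ⟨i, j⟩ => ?_
  have key : ∀ z : C ⊗[R] C, b.repr (TensorProduct.map f f z) (i, j) =
      Algebra.TensorProduct.lift (P i) (P j) (fun _ _ => Commute.all _ _) z := by
    intro z
    induction z using TensorProduct.induction_on with
    | zero => simp
    | tmul u v =>
      rw [TensorProduct.map_tmul, Algebra.TensorProduct.lift_tmul]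
      simp [b, f, mul_comm]
    | add u v hu hv => rw [map_add, map_add, Finsupp.add_apply, hu, hv, map_add]
  rw [key, key, h]

end algebra

/-- Evaluation of two points on `A ⊗ A`. -/
abbrev pairing (f g : A →ₐ[R] R) : A ⊗[R] A →ₐ[R] R := Algebra.TensorProduct.lift f g (fun _ _ => Commute.all _ _)

theorem pairing_comul (f g : A →ₐ[R] R) (a : A) :
    pairing f g (CoalgebraStruct.comul (R := R) a) = (toConv f * toConv g).ofConv a := by
  rw [AlgHom.convMul_apply]

variable {M : Type} [Group M] {P : M → (A →ₐ[R] R)}

namespace IsModel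

variable (hP : IsModel R A P)
include hP

theorem flat : Module.Flat R A := by
  haveI := hP.free
  infer_instance

theorem comul_apply (m n : M) (a : A) :
    pairing (P m) (P n) (CoalgebraStruct.comul (R := R) a) = P (m * n) a := by
  rw [pairing_comul, hP.mul]

theorem one_eq (a : A) : P 1 a = CoalgebraStruct.counit (R := R) a := by
  have h0 : toConv (P 1) = 1 := by
    have h := hP.mul 1 1
    rw [mul_one] at h
    exact mul_left_cancel (h.trans (_root_.mul_one _).symm)
  have h := congrArg (fun z : WithConv (A →ₐ[R] R) => z.ofConv a) h0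
  simpa [AlgHom.convOne_apply] using h

theorem antipode_apply (m : M) (a : A) : P m (HopfAlgebraStruct.antipode R a) = P m⁻¹ a := by
  have h1 : toConv (P m) * toConv (P m⁻¹) = 1 := by
    rw [hP.mul, mul_inv_cancel]
    refine WithConv.ext (AlgHom.ext fun a => ?_)
    simpa [AlgHom.convOne_apply] using hP.one_eq a
  have h2 : toConv ((P m).comp (HopfAlgebra.antipodeAlgHom R A)) * toConv (P m) = 1 := by
    have h := congrArg (fun f : WithConv (A →ₐ[R] A) => (P m).comp f.ofConv)
      (inv_mul_cancel (toConv (AlgHom.id R A) : WithConv (A →ₐ[R] A)))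
    simp only [AlgHom.comp_convMul_distrib] at h
    refine WithConv.ext (h.trans (AlgHom.ext fun b => ?_))
    exact (P m).commutes _
  have h3 := left_inv_eq_right_inv h2 h1
  exact congrArg (fun z : WithConv (A →ₐ[R] R) => z.ofConv a) h3

variable [IsDomain R] [Finite M]

/-- The points span the dual up to a scalar. -/
theorem exists_scaled : ∃ (c : R) (s : (M → R) →ₗ[R] A), c ≠ 0 ∧ ∀ f m, P m (s f) = c * f m := by
  classical
  haveI := hP.finite
  haveI := hP.free
  haveI := Fintype.ofFinite M
  let b := Module.finBasisOfFinrankEq R A (hP.rank.trans Nat.card_eq_fintype_card)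
  let eM : Fin (Fintype.card M) ≃ M := (Fintype.equivFin M).symm
  let N : Matrix (Fin (Fintype.card M)) (Fin (Fintype.card M)) R := fun i j => P (eM i) (b j)
  have key : ∀ v m, P m (b.equivFun.symm v) = N.mulVec v (eM.symm m) := fun v m => by
    rw [b.equivFun_symm_apply, map_sum]
    simp only [Matrix.mulVec, dotProduct, N, Equiv.apply_symm_apply, map_smul, smul_eq_mul]
    exact Finset.sum_congr rfl fun j _ => mul_comm _ _
  have hN : N.det ≠ 0 := by
    intro h0
    obtain ⟨v, hv, hv'⟩ := Matrix.exists_mulVec_eq_zero_iff.2 h0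
    refine hv (b.equivFun.symm.injective ((hP.inj _ fun m => ?_).trans (map_zero _).symm))
    rw [key, hv', Pi.zero_apply]
  refine ⟨N.det, b.equivFun.symm.toLinearMap ∘ₗ N.adjugate.mulVecLin ∘ₗ (LinearMap.funLeft R R eM), hN,
    fun f m => ?_⟩
  rw [LinearMap.comp_apply, LinearMap.comp_apply, LinearEquiv.coe_coe, key, Matrix.mulVecLin_apply,
    Matrix.mulVec_mulVec, Matrix.mul_adjugate, Matrix.smul_mulVec, Matrix.one_mulVec]
  simp [LinearMap.funLeft]

end IsModel

variable (N : Subgroup M)

/-- Functions invariant under translations by `N`. -/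
def invAlg (P : M → (A →ₐ[R] R)) : Subalgebra R A where
  carrier := {a | ∀ m, ∀ n ∈ N, P (m * n) a = P m a}
  mul_mem' := fun ha hb m n hn => by rw [map_mul, map_mul, ha m n hn, hb m n hn]
  add_mem' := fun ha hb m n hn => by rw [map_add, map_add, ha m n hn, hb m n hn]
  algebraMap_mem' := fun r m n _ => by rw [AlgHom.commutes, AlgHom.commutes]

theorem mem_invAlg {a : A} : a ∈ invAlg N P ↔ ∀ m, ∀ n ∈ N, P (m * n) a = P m a := Iff.rfl

/-- The ideal of the scheme closure of `N`. -/
def closIdeal (P : M → (A →ₐ[R] R)) : Ideal A := ⨅ n : N, RingHom.ker (P n)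

theorem mem_closIdeal {a : A} : a ∈ closIdeal N P ↔ ∀ n : N, P n a = 0 := by
  simp [closIdeal, Ideal.mem_iInf, RingHom.mem_ker]

/-- The points of the scheme closure. -/
def closPt (P : M → (A →ₐ[R] R)) (n : N) : A ⧸ closIdeal N P →ₐ[R] R :=
  Ideal.Quotient.liftₐ _ (P n) fun _ ha => (mem_closIdeal N).1 ha n

theorem closPt_mk (n : N) (a : A) : closPt N P n (Ideal.Quotient.mk _ a) = P n a := rfl

theorem closPt_inj (z : A ⧸ closIdeal N P) (h : ∀ n, closPt N P n z = 0) : z = 0 := by
  obtain ⟨a, rfl⟩ := Ideal.Quotient.mk_surjective z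
  exact Ideal.Quotient.eq_zero_iff_mem.2 ((mem_closIdeal N).2 fun n => (closPt_mk N n a).symm.trans (h n))

variable [IsDomain R] [IsPrincipalIdealRing R] [Finite M]

namespace IsModel

variable (hP : IsModel R A P)
include hP

theorem clos_free : Module.Finite R (A ⧸ closIdeal N P) ∧ Module.Free R (A ⧸ closIdeal N P) := by
  haveI := hP.finite
  haveI : Module.Finite R (A ⧸ closIdeal N P) := Module.Finite.of_surjective (Ideal.Quotient.mkₐ R _).toLinearMap
    Ideal.Quotient.mk_surjective
  let f : (A ⧸ closIdeal N P) →ₗ[R] (N → R) := LinearMap.pi fun n => (closPt N P n).toLinearMap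
  have hf : Function.Injective f := by
    rw [← LinearMap.ker_eq_bot, LinearMap.ker_eq_bot']
    exact fun z hz => closPt_inj N z fun n => congrFun hz n
  haveI : Module.IsTorsionFree R (A ⧸ closIdeal N P) := hf.moduleIsTorsionFree f (fun r x => map_smul f r x)
  exact ⟨inferInstance, Module.free_of_finite_type_torsion_free'⟩

theorem clos_isHopfIdeal : (closIdeal N P).IsHopfIdeal R := by
  classical
  haveI := (hP.clos_free N).2
  have hco : ((closIdeal N P).restrictScalars R).IsCoideal := by
    refine Submodule.IsCoideal.mk ?_ ?_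
    · intro z hz
      rw [← hP.one_eq]
      exact (mem_closIdeal N).1 hz 1
    · intro z hz
      change Algebra.TensorProduct.map (Ideal.Quotient.mkₐ R (closIdeal N P)) (Ideal.Quotient.mkₐ R (closIdeal N P))
        (CoalgebraStruct.comul (R := R) z) = 0
      refine tensor_ext (closPt N P) (closPt_inj N) fun i j => ?_
      rw [map_zero]
      have : ∀ w, Algebra.TensorProduct.lift (closPt N P i) (closPt N P j) (fun _ _ => Commute.all _ _)
          (Algebra.TensorProduct.map (Ideal.Quotient.mkₐ R _) (Ideal.Quotient.mkₐ R _) w) =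
          pairing (P i) (P j) w := fun w => by
        induction w using TensorProduct.induction_on with
        | zero => simp
        | tmul x y => simp [closPt_mk]
        | add x y hx hy => simp only [map_add, hx, hy]
      rw [this, hP.comul_apply]
      exact (mem_closIdeal N).1 hz (i * j)
  refine { hco with antipode_mem := fun z hz => (mem_closIdeal N).2 fun n => ?_ }
  rw [hP.antipode_apply]
  exact (mem_closIdeal N).1 hz n⁻¹

/-- The scheme closure of a subgroup is a model of it. -/
theorem clos : letI := hP.clos_isHopfIdeal N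
    IsModel R (A ⧸ closIdeal N P) (closPt N P) := by
  classical
  letI := hP.clos_isHopfIdeal N
  haveI := (hP.clos_free N).1
  haveI := (hP.clos_free N).2
  haveI := Fintype.ofFinite N
  refine ⟨inferInstance, inferInstance, closPt_inj N, le_antisymm ?_ ?_, fun i j => ?_⟩
  · let f : (A ⧸ closIdeal N P) →ₗ[R] (N → R) := LinearMap.pi fun n => (closPt N P n).toLinearMap
    have hf : Function.Injective f := by
      rw [← LinearMap.ker_eq_bot, LinearMap.ker_eq_bot']
      exact fun z hz => closPt_inj N z fun n => congrFun hz n
    refine (LinearMap.finrank_le_finrank_of_injective hf).trans_eq ?_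
    rw [Module.finrank_pi, Nat.card_eq_fintype_card]
  · obtain ⟨c, s, hc, hs⟩ := hP.exists_scaled
    let ext : (N → R) →ₗ[R] (M → R) := LinearMap.pi fun m =>
      if h : m ∈ N then LinearMap.proj ⟨m, h⟩ else 0
    let g : (N → R) →ₗ[R] A ⧸ closIdeal N P := (Ideal.Quotient.mkₐ R _).toLinearMap ∘ₗ s ∘ₗ ext
    have hg : Function.Injective g := by
      rw [← LinearMap.ker_eq_bot, LinearMap.ker_eq_bot']
      intro f hf
      funext n
      have h : P n (s (ext f)) = 0 := by
        have := congrArg (closPt N P n) hf
        rwa [map_zero] at this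
      rw [hs] at h
      refine Eq.trans ?_ ((mul_eq_zero.1 h).resolve_left hc)
      simp [ext]
    refine le_of_eq_of_le ?_ (LinearMap.finrank_le_finrank_of_injective hg)
    rw [Module.finrank_pi, Nat.card_eq_fintype_card]
  · refine WithConv.ext (AlgHom.ext fun z => ?_)
    obtain ⟨a, rfl⟩ := Ideal.Quotient.mk_surjective z
    have h1 := congrArg (fun f : A →ₐ[R] R => f a) (AlgHom.convMul_comp_bialgHom_distrib
      (toConv (closPt N P i)) (toConv (closPt N P j)) (Bialgebra.Quotient.mkBialgHom (closIdeal N P)))
    refine h1.trans ?_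
    show (toConv (P i) * toConv (P j)).ofConv a = P (i * j : N) a
    rw [hP.mul]
    rfl

/-! ### The quotient -/

theorem invAlg_free :
    Module.Finite R (invAlg N P) ∧ Module.Free R (invAlg N P) ∧
      ∃ π : A →ₗ[R] (invAlg N P), ∀ b : invAlg N P, π b = b := by
  haveI := hP.finite
  haveI := hP.free
  let W := Subalgebra.toSubmodule (invAlg N P)
  haveI : Module.Finite R W := Module.IsNoetherian.finite R W
  haveI : Module.Free R W := Module.free_of_finite_type_torsion_free'
  haveI : Module.IsTorsionFree R (A ⧸ W) := by
    rw [Module.isTorsionFree_iff_smul_eq_zero]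
    intro r z hz
    refine or_iff_not_imp_left.2 fun hr => ?_
    obtain ⟨a, rfl⟩ := W.mkQ_surjective z
    rw [← map_smul, Submodule.mkQ_apply, Submodule.Quotient.mk_eq_zero] at hz
    rw [Submodule.mkQ_apply, Submodule.Quotient.mk_eq_zero]
    intro m n hn
    have h := hz m n hn
    rw [map_smul, map_smul, smul_eq_mul, smul_eq_mul] at h
    exact mul_left_cancel₀ hr h
  haveI : Module.Free R (A ⧸ W) := Module.free_of_finite_type_torsion_free'
  obtain ⟨sec, hsec⟩ := W.mkQ.exists_rightInverse_of_surjective W.range_mkQ
  refine ⟨inferInstanceAs (Module.Finite R W), inferInstanceAs (Module.Free R W),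
    (LinearMap.id - sec ∘ₗ W.mkQ).codRestrict W (fun a => ?h1), fun b => ?h2⟩
  case h1 =>
    have h := LinearMap.congr_fun hsec (W.mkQ a)
    simp only [LinearMap.comp_apply, LinearMap.id_apply] at h
    refine (Submodule.Quotient.mk_eq_zero W).1 ?_
    show W.mkQ (a - sec (W.mkQ a)) = 0
    rw [map_sub, h, sub_self]
  case h2 =>
    refine Subtype.ext ?_
    show (b : A) - sec (W.mkQ (b : A)) = b
    have : W.mkQ (b : A) = 0 := by
      rw [Submodule.mkQ_apply, Submodule.Quotient.mk_eq_zero]
      exact b.2
    rw [this, map_zero, sub_zero]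

variable [N.Normal]

theorem invAlg_hopf : (∀ b ∈ invAlg N P, CoalgebraStruct.comul (R := R) b ∈
      Set.range (Algebra.TensorProduct.map (invAlg N P).val (invAlg N P).val)) ∧
    ∀ b ∈ invAlg N P, HopfAlgebraStruct.antipode R b ∈ invAlg N P := by
  obtain ⟨_, _, π, hπ⟩ := hP.invAlg_free N
  haveI := hP.free
  refine ⟨fun b hb => ⟨TensorProduct.map π π (CoalgebraStruct.comul (R := R) b), ?_⟩, fun b hb m n hn => ?_⟩
  · let e : A →ₗ[R] A := (invAlg N P).val.toLinearMap ∘ₗ π
    have he : ∀ a ∈ invAlg N P, e a = a := fun a ha => congrArg Subtype.val (hπ ⟨a, ha⟩)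
    -- fixed in the left variable
    have hl : ∀ (x : A ⊗[R] A), (∀ i j, ∀ n ∈ N, pairing (P (i * n)) (P j) x = pairing (P i) (P j) x) →
        TensorProduct.map e LinearMap.id x = x := by
      intro x hx
      refine tensor_ext P hP.inj fun i j => ?_
      let y : A := Algebra.TensorProduct.lift (AlgHom.id R A) ((Algebra.ofId R A).comp (P j))
        (fun _ _ => Commute.all _ _) x
      have hy : ∀ i, P i y = pairing (P i) (P j) x := fun i => by
        simp only [y]
        clear hx
        induction x using TensorProduct.induction_on with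
        | zero => simp
        | tmul u v => simp [Algebra.ofId_apply]
        | add u v hu hv => simp only [map_add, hu, hv]
      have h1 : pairing (P i) (P j) (TensorProduct.map e LinearMap.id x) = P i (e y) := by
        simp only [y]
        clear hx hy
        induction x using TensorProduct.induction_on with
        | zero => simp
        | tmul u v =>
          have : e (u * algebraMap R A (P j v)) = e u * algebraMap R A (P j v) := by
            rw [mul_comm, ← Algebra.smul_def, map_smul, Algebra.smul_def, mul_comm]
          simp [Algebra.ofId_apply, this]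
        | add u v hu hv => simp only [map_add, hu, hv]
      rw [show Algebra.TensorProduct.lift (P i) (P j) (fun _ _ => Commute.all _ _)
          (TensorProduct.map e LinearMap.id x) = _ from h1, he y fun m n hn => by rw [hy, hy, hx m j n hn], hy]
    have hr : ∀ (x : A ⊗[R] A), (∀ i j, ∀ n ∈ N, pairing (P i) (P (j * n)) x = pairing (P i) (P j) x) →
        TensorProduct.map LinearMap.id e x = x := by
      intro x hx
      have hc : ∀ i j (z : A ⊗[R] A), pairing (P i) (P j) (TensorProduct.comm R A A z) = pairing (P j) (P i) z := by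
        intro i j z
        induction z using TensorProduct.induction_on with
        | zero => simp
        | tmul u v => simp [mul_comm]
        | add u v hu hv => simp only [map_add, hu, hv]
      have h := hl (TensorProduct.comm R A A x) fun i j n hn => by rw [hc, hc, hx j i n hn]
      apply (TensorProduct.comm R A A).injective
      refine Eq.trans ?_ h
      clear hx h
      induction x using TensorProduct.induction_on with
      | zero => simp
      | tmul u v => simp
      | add u v hu hv => simp only [map_add, hu, hv]
    have hx1 : ∀ i j, ∀ n ∈ N, pairing (P (i * n)) (P j) (CoalgebraStruct.comul (R := R) b) =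
        pairing (P i) (P j) (CoalgebraStruct.comul (R := R) b) := fun i j n hn => by
      rw [hP.comul_apply, hP.comul_apply, show i * n * j = (i * j) * (j⁻¹ * n * j) by group]
      exact hb _ _ (by simpa using Subgroup.Normal.conj_mem ‹N.Normal› n hn j⁻¹)
    have hx2 : ∀ i j, ∀ n ∈ N, pairing (P i) (P (j * n)) (CoalgebraStruct.comul (R := R) b) =
        pairing (P i) (P j) (CoalgebraStruct.comul (R := R) b) := fun i j n hn => by
      rw [hP.comul_apply, hP.comul_apply, ← mul_assoc]
      exact hb _ _ hn
    have e1 := hl _ hx1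
    have e2 := hr _ hx2
    show Algebra.TensorProduct.map _ _ _ = _
    rw [show Algebra.TensorProduct.map (invAlg N P).val (invAlg N P).val
        (TensorProduct.map π π (CoalgebraStruct.comul (R := R) b)) =
        TensorProduct.map e LinearMap.id (TensorProduct.map LinearMap.id e (CoalgebraStruct.comul (R := R) b)) from ?_,
      e2, e1]
    generalize CoalgebraStruct.comul (R := R) b = z
    induction z using TensorProduct.induction_on with
    | zero => simp
    | tmul u v => simp [e]
    | add u v hu hv => simp only [map_add, hu, hv]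
  · rw [hP.antipode_apply, hP.antipode_apply, show (m * n)⁻¹ = m⁻¹ * (m * n⁻¹ * m⁻¹) by group]
    exact hb _ _ (Subgroup.Normal.conj_mem ‹N.Normal› _ (N.inv_mem hn) m)

/-- The Hopf algebra of invariants. -/
@[implicit_reducible]
def invHopf : HopfAlgebra R (invAlg N P) :=
  haveI := hP.free
  haveI := (hP.invAlg_free N).2.1
  SubHopf.hopfAlgebra (hP.invAlg_hopf N)

/-- The inclusion of the invariants. -/
def invIncl : letI := hP.invHopf N; invAlg N P →ₐc[R] A :=
  haveI := hP.free
  haveI := (hP.invAlg_free N).2.1
  SubHopf.inclBialg (hP.invAlg_hopf N)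

omit [IsDomain R] [IsPrincipalIdealRing R] [Finite M] in
theorem invIncl_apply [IsDomain R] [IsPrincipalIdealRing R] [Finite M] (b : invAlg N P) :
    (letI := hP.invHopf N; hP.invIncl N b) = (b : A) := rfl

end IsModel

/-- The points of the quotient. -/
def invPt (P : M → (A →ₐ[R] R)) (q : M ⧸ N) : invAlg N P →ₐ[R] R := (P q.out).comp (invAlg N P).val

theorem invPt_mk (m : M) (b : invAlg N P) : invPt N P (m : M ⧸ N) b = P m b := by
  obtain ⟨n, hn⟩ := QuotientGroup.mk_out_eq_mul N m
  show P _ (b : A) = _
  rw [hn]
  exact b.2 m n n.2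

namespace IsModel

variable [N.Normal] (hP : IsModel R A P)
include hP

/-- The invariants form a model of the quotient. -/
theorem inv : letI := hP.invHopf N
    IsModel R (invAlg N P) (invPt N P) := by
  classical
  letI := hP.invHopf N
  haveI := (hP.invAlg_free N).1
  haveI := (hP.invAlg_free N).2.1
  haveI := Fintype.ofFinite (M ⧸ N)
  have hinj : ∀ b, (∀ q, invPt N P q b = 0) → b = 0 := fun b hb =>
    Subtype.ext (hP.inj _ fun m => (invPt_mk N m b).symm.trans (hb _))
  refine ⟨inferInstance, inferInstance, hinj, le_antisymm ?_ ?_, fun i j => ?_⟩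
  · let f : invAlg N P →ₗ[R] (M ⧸ N → R) := LinearMap.pi fun q => (invPt N P q).toLinearMap
    have hf : Function.Injective f := by
      rw [← LinearMap.ker_eq_bot, LinearMap.ker_eq_bot']
      exact fun z hz => hinj z fun n => congrFun hz n
    refine (LinearMap.finrank_le_finrank_of_injective hf).trans_eq ?_
    rw [Module.finrank_pi, Nat.card_eq_fintype_card]
  · obtain ⟨c, s, hc, hs⟩ := hP.exists_scaled
    let g : (M ⧸ N → R) →ₗ[R] invAlg N P :=
      (s ∘ₗ LinearMap.funLeft R R (QuotientGroup.mk (s := N))).codRestrict (Subalgebra.toSubmodule (invAlg N P))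
        fun f m n hn => by
          rw [LinearMap.comp_apply, hs, hs, LinearMap.funLeft_apply, LinearMap.funLeft_apply,
            QuotientGroup.mk_mul_of_mem m hn]
    have hg : Function.Injective g := by
      rw [← LinearMap.ker_eq_bot, LinearMap.ker_eq_bot']
      intro f hf
      funext q
      induction q using QuotientGroup.induction_on with
      | H m =>
        have h : P m (s (LinearMap.funLeft R R (QuotientGroup.mk (s := N)) f)) = 0 := by
          have := congrArg (fun z : invAlg N P => P m (z : A)) hf
          exact this.trans (map_zero (P m))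
        rw [hs] at h
        exact (mul_eq_zero.1 h).resolve_left hc
    refine le_of_eq_of_le ?_ (LinearMap.finrank_le_finrank_of_injective hg)
    rw [Module.finrank_pi, Nat.card_eq_fintype_card]
  · induction i using QuotientGroup.induction_on with
    | H m =>
      induction j using QuotientGroup.induction_on with
      | H n =>
        have hQ : ∀ m : M, invPt N P (m : M ⧸ N) = (P m).comp (invAlg N P).val := fun m =>
          AlgHom.ext (invPt_mk N m)
        rw [← QuotientGroup.mk_mul, hQ, hQ, hQ]
        refine WithConv.ext (AlgHom.ext fun b => ?_)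
        have h1 := congrArg (fun f : invAlg N P →ₐ[R] R => f b) (AlgHom.convMul_comp_bialgHom_distrib
          (toConv (P m)) (toConv (P n)) (hP.invIncl N))
        refine h1.symm.trans ?_
        show (toConv (P m) * toConv (P n)).ofConv (b : A) = P (m * n) (b : A)
        rw [hP.mul]

end IsModel

section kernel

variable {R : Type u} [CommRing R] [IsDomain R] [IsDiscreteValuationRing R] {A : Type u} [CommRing A]
  [HopfAlgebra R A] {M : Type} [Group M] [Finite M] {P : M → (A →ₐ[R] R)} (N : Subgroup M) [N.Normal]

/-- The scheme closure of `N` is the kernel of the map to the quotient model. -/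
theorem IsModel.closIdeal_eq (hP : IsModel R A P) : letI := hP.invHopf N
    closIdeal N P = (RingHom.ker (Bialgebra.counitAlgHom R (invAlg N P))).map (hP.invIncl N : invAlg N P →+* A) := by
  classical
  letI := hP.invHopf N
  letI := hP.clos_isHopfIdeal N
  have hI := hP.clos N
  have hB := hP.inv N
  haveI := hP.finite
  haveI := hP.free
  haveI := hB.finite
  haveI := hB.free
  let J : Ideal A := (RingHom.ker (Bialgebra.counitAlgHom R (invAlg N P))).map (hP.invIncl N : invAlg N P →+* A)
  have hJI : J ≤ closIdeal N P := by
    refine Ideal.map_le_iff_le_comap.2 fun b hb => (mem_closIdeal N).2 fun n => ?_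
    show P n (b : A) = 0
    have h := b.2 1 n n.2
    rw [one_mul] at h
    rw [h, hP.one_eq]
    exact hb
  let k := IsLocalRing.ResidueField R
  let φk : k ⊗[R] (invAlg N P) →ₐc[k] k ⊗[R] A :=
    Bialgebra.TensorProduct.map (BialgHom.id k k) (hP.invIncl N)
  have hφk : Function.Injective φk := by
    obtain ⟨_, _, π, hπ⟩ := hP.invAlg_free N
    refine Function.LeftInverse.injective (g := π.baseChange k) fun z => ?_
    induction z using TensorProduct.induction_on with
    | zero => simp
    | tmul x y =>
      show π.baseChange k (x ⊗ₜ (y : A)) = x ⊗ₜ y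
      rw [LinearMap.baseChange_tmul, hπ]
    | add x y hx hy => rw [map_add, map_add, hx, hy]
  have hidx := Index.finrank_eq_mul φk hφk
  rw [Module.finrank_baseChange, Module.finrank_baseChange, hP.rank, hB.rank,
    Subgroup.card_eq_card_quotient_mul_card_subgroup N] at hidx
  let g : k ⊗[R] A →ₐ[k] k ⊗[R] (A ⧸ J) :=
    Algebra.TensorProduct.map (AlgHom.id k k) (Ideal.Quotient.mkₐ R J)
  have hg : (RingHom.ker (Bialgebra.counitAlgHom k (k ⊗[R] (invAlg N P)))).map (φk : _ →+* k ⊗[R] A) ≤ RingHom.ker g := by
    refine Ideal.map_le_iff_le_comap.2 fun z hz => ?_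
    rw [Ideal.mem_comap, RingHom.mem_ker]
    have key : ∀ z : k ⊗[R] (invAlg N P), g (φk z) =
        (Bialgebra.counitAlgHom k (k ⊗[R] (invAlg N P)) z) ⊗ₜ[R] (1 : A ⧸ J) := by
      intro z
      induction z using TensorProduct.induction_on with
      | zero => simp
      | tmul x y =>
        show x ⊗ₜ[R] Ideal.Quotient.mk J (y : A) = _
        have hy : Ideal.Quotient.mk J (y : A) =
            algebraMap R (A ⧸ J) (CoalgebraStruct.counit (R := R) y) := by
          rw [← Ideal.Quotient.mk_algebraMap, Ideal.Quotient.mk_eq_mk_iff_sub_mem]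
          have hmem : y - algebraMap R (invAlg N P) (CoalgebraStruct.counit (R := R) y) ∈
              RingHom.ker (Bialgebra.counitAlgHom R (invAlg N P)) := by simp [RingHom.mem_ker]
          exact Ideal.mem_map_of_mem (hP.invIncl N : invAlg N P →+* A) hmem
        rw [hy, Algebra.algebraMap_eq_smul_one, ← TensorProduct.smul_tmul]
        congr 1
      | add x y hx hy => simp only [map_add, hx, hy, TensorProduct.add_tmul]
    show g (φk z) = 0
    rw [key, RingHom.mem_ker.1 hz, TensorProduct.zero_tmul]
  have hgs : Function.Surjective g := fun z => by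
    induction z using TensorProduct.induction_on with
    | zero => exact ⟨0, map_zero _⟩
    | tmul x y =>
      obtain ⟨a, rfl⟩ := Ideal.Quotient.mk_surjective y
      exact ⟨x ⊗ₜ a, rfl⟩
    | add x y hx hy =>
      obtain ⟨a, rfl⟩ := hx
      obtain ⟨b, rfl⟩ := hy
      exact ⟨a + b, map_add _ _ _⟩
  haveI : Module.Finite R (A ⧸ J) := Module.Finite.of_surjective (Ideal.Quotient.mkₐ R J).toLinearMap
    Ideal.Quotient.mk_surjective
  have hdim : Module.finrank k (k ⊗[R] (A ⧸ J)) ≤ Nat.card N := by
    have hpos : 0 < Nat.card (M ⧸ N) := Nat.card_pos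
    rw [Nat.eq_of_mul_eq_mul_left hpos hidx]
    refine LinearMap.finrank_le_finrank_of_surjective
      (f := (Ideal.Quotient.liftₐ _ g (fun a ha => RingHom.mem_ker.1 (hg ha))).toLinearMap) ?_
    intro z
    obtain ⟨a, rfl⟩ := hgs z
    exact ⟨Ideal.Quotient.mk _ a, rfl⟩
  let bk := Module.finBasis k (k ⊗[R] (A ⧸ J))
  have hsur1 : Function.Surjective (TensorProduct.mk R k (A ⧸ J) 1) :=
    TensorProduct.mk_surjective R (A ⧸ J) k IsLocalRing.residue_surjective
  choose v hv using fun i => hsur1 (bk i)
  have hspan : Submodule.span R (Set.range v) = ⊤ :=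
    IsLocalRing.span_eq_top_of_tmul_eq_basis (R := R) v bk hv
  haveI := hI.finite
  haveI := hI.free
  let n := Module.finrank k (k ⊗[R] (A ⧸ J))
  let p : (A ⧸ J) →ₐ[R] A ⧸ closIdeal N P := Ideal.Quotient.factorₐ R hJI
  have hp : Function.Surjective p := Ideal.Quotient.factor_surjective hJI
  let ψ : (Fin n → R) →ₗ[R] A ⧸ J := Fintype.linearCombination R v
  have hψ : Function.Surjective ψ := by
    rw [← LinearMap.range_eq_top, Fintype.range_linearCombination]
    exact hspan
  have hn : n = Nat.card N := le_antisymm hdim (by
    rw [← hI.rank]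
    refine le_trans (LinearMap.finrank_le_finrank_of_surjective (f := p.toLinearMap ∘ₗ ψ) (hp.comp hψ)) ?_
    rw [Module.finrank_pi, Fintype.card_fin])
  let b := Module.finBasisOfFinrankEq R (A ⧸ closIdeal N P) (hI.rank.trans hn.symm)
  have hbij : Function.Bijective (b.equivFun.toLinearMap ∘ₗ (p.toLinearMap ∘ₗ ψ)) :=
    OrzechProperty.bijective_of_surjective_endomorphism _ (b.equivFun.surjective.comp (hp.comp hψ))
  refine le_antisymm (fun a ha => ?_) hJI
  obtain ⟨x, hx⟩ := hψ (Ideal.Quotient.mk J a)
  have h0 : x = 0 := by
    refine hbij.1 ?_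
    rw [map_zero]
    show b.equivFun (p (ψ x)) = 0
    rw [hx]
    show b.equivFun (Ideal.Quotient.mk (closIdeal N P) a) = 0
    rw [Ideal.Quotient.eq_zero_iff_mem.2 ha, map_zero]
  rw [h0, map_zero] at hx
  exact Ideal.Quotient.eq_zero_iff_mem.1 hx.symm

end kernel

end Groth.L08.Models
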