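import Groth.Prelude.Def_SekSuwa2
import Mathlib.RingTheory.DiscreteValuationRing.Basic
import Mathlib.RingTheory.RootsOfUnity.PrimitiveRoots
import Mathlib.RingTheory.RootsOfUnity.Minpoly
import Mathlib.RingTheory.IntegralClosure.IntegrallyClosed
import Mathlib.RingTheory.LocalRing.Module
import Mathlib.LinearAlgebra.Matrix.ToLinearEquiv
import Mathlib.LinearAlgebra.TensorProduct.Basis
import Mathlib.RingTheory.Flat.Basic
import Mathlib.LinearAlgebra.FreeModule.PID
import Mathlib.Algebra.Polynomial.Div
import Mathlib.LinearAlgebra.Dimension.Constructions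
import Mathlib.RingTheory.OrzechProperty
import Mathlib.Algebra.CharP.Lemmas
import Mathlib.LinearAlgebra.Dimension.OrzechProperty
import Mathlib.RingTheory.RootsOfUnity.Lemmas
import Mathlib.Data.Nat.Choose.Dvd

/-!
# Models of the constant group of order `p` over a discrete valuation ring

Let `R` be a discrete valuation ring of residue characteristic `p` containing a primitive `p`-th root of
unity, and `A` a finite free Hopf algebra over `R` of rank `p` with `p` points forming a group `ℤ/p` and
separating `A`.  Then `A ≅ R[t]/(((1 + λ t)^p - 1)/λ^p)`.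

The proof: the character `χ` of the generic fibre lies in `A` by integrality; with `χ - 1 = λ t`, `t` not
divisible by the uniformiser, the reductions of `1, t, …, t^(p-1)` are linearly independent by an elementary
argument with the comultiplication.
-/

set_option autoImplicit false
set_option maxSynthPendingDepth 3

universe u

open TensorProduct Polynomial

noncomputable section

namespace Groth.L08.SekSuwaPrime

section Field

variable {k B : Type u} [Field k] [CommRing B] [Algebra k B] (Δ : B →ₐ[k] B ⊗[k] B)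

/-- Functionals dual to a linearly independent family. -/
theorem exists_dual {d : ℕ} {v : Fin d → B} (hv : LinearIndependent k v) :
    ∃ φ : Fin d → (B →ₗ[k] k), ∀ i j, φ i (v j) = if i = j then 1 else 0 := by
  classical
  have hinj : LinearMap.ker (Fintype.linearCombination k v) = ⊥ :=
    LinearMap.ker_eq_bot.2 (linearIndependent_iff_injective_fintypeLinearCombination.1 hv)
  obtain ⟨g, hg⟩ := LinearMap.exists_leftInverse_of_injective _ hinj
  refine ⟨fun i => (LinearMap.proj i).comp g, fun i j => ?_⟩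
  have h := congrFun (LinearMap.congr_fun hg (Pi.single j 1)) i
  rw [LinearMap.comp_apply, Fintype.linearCombination_apply_single, one_smul] at h
  rw [LinearMap.comp_apply, LinearMap.proj_apply, h, LinearMap.id_apply, Pi.single_apply]

/-- A product functional on `B ⊗ B`. -/
def pair (φ ψ : B →ₗ[k] k) : B ⊗[k] B →ₗ[k] k := (LinearMap.mul' k k).comp (TensorProduct.map φ ψ)

theorem pair_tmul (φ ψ : B →ₗ[k] k) (a b : B) : pair φ ψ (a ⊗ₜ b) = φ a * ψ b := rfl

/-- Powers of a nontrivial element killed by `p`, group-like for `Δ`, are independent up to `p`. -/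
theorem indep_groupLike {p : ℕ} [Fact p.Prime] (g : B) (hΔ : Δ g = g ⊗ₜ g) (hg : g ^ p = 1) (hg1 : g ≠ 1) :
    ∀ d ≤ p, LinearIndependent k (fun i : Fin d => g ^ (i : ℕ)) := by
  classical
  intro d hd
  induction d with
  | zero => exact linearIndependent_empty_type
  | succ d ih =>
    have hd' : d < p := hd
    have hv := ih hd'.le
    rw [linearIndependent_fin_succ']
    refine ⟨hv, fun hmem => ?_⟩
    simp only [Fin.val_last] at hmem
    rw [show Fin.init (fun i : Fin (d + 1) => g ^ (i : ℕ)) = fun i : Fin d => g ^ (i : ℕ) from rfl] at hmem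
    obtain ⟨c, hc⟩ := (Submodule.mem_span_range_iff_exists_fun k).1 hmem
    obtain ⟨φ, hφ⟩ := exists_dual hv
    have hφd : ∀ a, φ a (g ^ d) = c a := fun a => by
      rw [← hc, map_sum]
      simp [hφ]
    -- compare both expressions of `Δ (g ^ d)`
    have key : ∀ a b : Fin d, c a * c b = if a = b then c a else 0 := by
      intro a b
      have e := congrArg (pair (φ a) (φ b)) (show Δ (g ^ d) = (g ^ d) ⊗ₜ (g ^ d) by
        rw [map_pow, hΔ, Algebra.TensorProduct.tmul_pow])
      rw [pair_tmul, hφd, hφd] at e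
      rw [← e, ← hc, map_sum, map_sum]
      simp only [map_smul, map_pow, hΔ, Algebra.TensorProduct.tmul_pow, pair_tmul, hφ, smul_eq_mul]
      rw [Finset.sum_eq_single a]
      · by_cases hab : a = b
        · subst hab; simp
        · simp [hab, Ne.symm hab]
      · intro x _ hx
        simp [Ne.symm hx]
      · simp
    have hgu : IsUnit g := IsUnit.of_pow_eq_one hg (Nat.Prime.pos Fact.out).ne'
    haveI : Nontrivial B := nontrivial_of_ne g 1 hg1
    obtain ⟨a, ha⟩ : ∃ a, c a ≠ 0 := by
      by_contra hall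
      push_neg at hall
      refine (hgu.pow d).ne_zero ?_
      rw [← hc]
      exact Finset.sum_eq_zero fun i _ => by rw [hall i, zero_smul]
    have hca : c a = 1 := by
      have h := key a a
      rw [if_pos rfl] at h
      exact mul_left_cancel₀ ha (h.trans (mul_one _).symm)
    have hb : ∀ b, b ≠ a → c b = 0 := fun b hb => by
      have h := key a b
      rw [if_neg (Ne.symm hb), hca, one_mul] at h
      exact h
    have hda : g ^ d = g ^ (a : ℕ) := by
      rw [← hc, Finset.sum_eq_single a (fun b _ hne => by rw [hb b hne, zero_smul]) (by simp), hca, one_smul]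
    have h1 : g ^ (d - (a : ℕ)) = 1 := by
      refine (hgu.pow (a : ℕ)).mul_left_cancel ?_
      rw [← pow_add, mul_one, Nat.add_sub_cancel' a.2.le]
      exact hda
    have hcop : Nat.Coprime p (d - (a : ℕ)) :=
      (Nat.Prime.coprime_iff_not_dvd Fact.out).2 fun hdvd => by
        have h2 := Nat.le_of_dvd (Nat.sub_pos_of_lt a.2) hdvd
        omega
    have h2 := pow_gcd_eq_one.2 ⟨hg, h1⟩
    rw [hcop] at h2
    exact hg1 (by simpa using h2)

/-- Powers of a nonzero primitive element are independent up to the characteristic. -/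
theorem indep_primitive {p : ℕ} [Fact p.Prime] [CharP k p] (ε : B →ₐ[k] k) (t : B)
    (hΔ : Δ t = t ⊗ₜ 1 + 1 ⊗ₜ t) (hε : ε t = 0) (ht : t ≠ 0) :
    ∀ d ≤ p, LinearIndependent k (fun i : Fin d => t ^ (i : ℕ)) := by
  classical
  haveI : Nontrivial B := nontrivial_of_ne t 0 ht
  intro d hd
  induction d with
  | zero => exact linearIndependent_empty_type
  | succ d ih =>
    have hd' : d < p := hd
    have hv := ih hd'.le
    rw [linearIndependent_fin_succ']
    refine ⟨hv, fun hmem => ?_⟩
    simp only [Fin.val_last] at hmem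
    rw [show Fin.init (fun i : Fin (d + 1) => t ^ (i : ℕ)) = fun i : Fin d => t ^ (i : ℕ) from rfl] at hmem
    obtain ⟨c, hc⟩ := (Submodule.mem_span_range_iff_exists_fun k).1 hmem
    by_cases hd2 : d < 2
    · interval_cases d
      · simp at hc
      · simp only [Fin.sum_univ_one, Fin.val_zero, pow_zero, pow_one] at hc
        have h0 := congrArg ε hc
        rw [map_smul, map_one, smul_eq_mul, mul_one, hε] at h0
        rw [h0, zero_smul] at hc
        exact ht hc.symm
    push_neg at hd2
    obtain ⟨φ, hφ⟩ := exists_dual hv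
    let a : Fin d := ⟨1, by omega⟩
    let b : Fin d := ⟨d - 1, by omega⟩
    have hpow : ∀ i : ℕ, i ≤ d → pair (φ a) (φ b) (Δ (t ^ i)) = if i = d then (d : k) else 0 := by
      intro i hi
      rw [map_pow, hΔ, add_pow, map_sum]
      have hterm : ∀ m ∈ Finset.range (i + 1),
          pair (φ a) (φ b) ((t ⊗ₜ 1) ^ m * ((1 : B) ⊗ₜ t) ^ (i - m) * (i.choose m : B ⊗[k] B)) =
            (i.choose m : k) * (φ a (t ^ m) * φ b (t ^ (i - m))) := by
        intro m _
        rw [Algebra.TensorProduct.tmul_pow, Algebra.TensorProduct.tmul_pow, Algebra.TensorProduct.tmul_mul_tmul,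
          one_pow, one_pow, mul_one, one_mul, mul_comm, ← nsmul_eq_mul, map_nsmul, pair_tmul, nsmul_eq_mul]
      rw [Finset.sum_congr rfl hterm]
      have hval : ∀ (x : Fin d) (m : ℕ), m < d → φ x (t ^ m) = if (x : ℕ) = m then 1 else 0 := fun x m hm => by
        have h := hφ x ⟨m, hm⟩
        rw [h]
        simp [Fin.ext_iff]
      have ha0 : φ a 1 = 0 := by
        have h := hval a 0 (by omega)
        rw [pow_zero] at h
        rw [h, if_neg]
        show (1 : ℕ) ≠ 0
        omega
      have hb0 : φ b 1 = 0 := by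
        have h := hval b 0 (by omega)
        rw [pow_zero] at h
        rw [h, if_neg]
        show d - 1 ≠ 0
        omega
      have hz : ∀ m ∈ Finset.range (i + 1), m ≠ 1 →
          (i.choose m : k) * (φ a (t ^ m) * φ b (t ^ (i - m))) = 0 := by
        intro m hm hm1
        rcases eq_or_ne m d with h | h
        · have : i - m = 0 := by omega
          rw [this, pow_zero, hb0, mul_zero, mul_zero]
        · rw [hval a m (by simp at hm; omega), if_neg (show (1 : ℕ) ≠ m from Ne.symm hm1), zero_mul, mul_zero]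
      rcases Nat.eq_zero_or_pos i with rfl | hi0
      · rw [Finset.sum_eq_zero (fun m hm => hz m hm (by simp at hm; omega)), if_neg (by omega)]
      rw [Finset.sum_eq_single 1 hz (by simp; omega), Nat.choose_one_right, hval a 1 (by omega),
        if_pos (show ((a : Fin d) : ℕ) = 1 from rfl), one_mul, hval b (i - 1) (by omega)]
      by_cases hid : i = d
      · subst hid
        rw [if_pos rfl, if_pos rfl, mul_one]
      · rw [if_neg (show d - 1 ≠ i - 1 by omega), if_neg hid, mul_zero]
    have e := congrArg (fun z => pair (φ a) (φ b) (Δ z)) hc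
    rw [hpow d le_rfl, if_pos rfl, map_sum, map_sum] at e
    simp only [map_smul] at e
    rw [Finset.sum_eq_zero (fun i _ => by rw [hpow i i.2.le, if_neg (by omega), smul_zero])] at e
    have hdvd : p ∣ d := (CharP.cast_eq_zero_iff k p d).1 e.symm
    have := Nat.le_of_dvd (by omega) hdvd
    omega

/-- The powers `1, t, …, t^(p-1)` are independent when `1 + l t` is group-like killed by `p`. -/
theorem indep {p : ℕ} [Fact p.Prime] [CharP k p] (ε : B →ₐ[k] k) (t : B) (l : k)
    (hΔ : Δ t = t ⊗ₜ 1 + 1 ⊗ₜ t + l • (t ⊗ₜ t)) (hε : ε t = 0) (ht : t ≠ 0) (hp : (1 + l • t) ^ p = 1) :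
    LinearIndependent k (fun i : Fin p => t ^ (i : ℕ)) := by
  classical
  by_cases hl : l = 0
  · exact indep_primitive Δ ε t (by rw [hΔ, hl, zero_smul, add_zero]) hε ht p le_rfl
  have hg : Δ (1 + l • t) = (1 + l • t) ⊗ₜ (1 + l • t) := by
    rw [map_add, map_one, map_smul, hΔ, Algebra.TensorProduct.one_def]
    simp only [add_tmul, tmul_add, smul_add, tmul_smul, ← smul_tmul', smul_smul]
    abel
  have hg1 : (1 + l • t : B) ≠ 1 := by
    intro h
    rw [add_eq_left] at h
    exact ht ((smul_eq_zero.1 h).resolve_left hl)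
  have hind := indep_groupLike Δ _ hg hp hg1 p le_rfl
  rw [linearIndependent_iff_card_le_finrank_span]
  refine le_trans (finrank_span_eq_card hind).ge ?_
  haveI : FiniteDimensional k (Submodule.span k (Set.range fun i : Fin p => t ^ (i : ℕ))) :=
    FiniteDimensional.span_of_finite k (Set.finite_range _)
  refine Submodule.finrank_mono (Submodule.span_le.2 ?_)
  rintro _ ⟨i, rfl⟩
  show (1 + l • t) ^ (i : ℕ) ∈ _
  rw [add_comm, add_pow]
  refine Submodule.sum_mem _ fun m hm => ?_
  rw [_root_.smul_pow, one_pow, mul_one, mul_comm, ← nsmul_eq_mul]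
  refine Submodule.smul_of_tower_mem _ _ (Submodule.smul_mem _ _ (Submodule.subset_span ?_))
  have : m ≤ (i : ℕ) := by simp at hm; omega
  exact ⟨⟨m, lt_of_le_of_lt this i.2⟩, rfl⟩

end Field

variable {R A : Type u} [CommRing R] [IsDomain R] [IsDiscreteValuationRing R] [CommRing A] [HopfAlgebra R A]
  {p : ℕ} [hp : Fact p.Prime] (ζ : R) (P : ZMod p → (A →ₐ[R] R))

/-- The evaluation at all points. -/
def evals : A →ₐ[R] (ZMod p → R) := Pi.algHom R _ P

theorem evals_apply (a : A) (i : ZMod p) : evals P a i = P i a := rfl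

/-- The evaluation at all pairs of points on `A ⊗ A` is injective. -/
theorem tensor_ext [Module.Finite R A] [Module.Free R A] (hinj : ∀ a, (∀ i, P i a = 0) → a = 0)
    {x y : A ⊗[R] A}
    (h : ∀ i j, Algebra.TensorProduct.lift (P i) (P j) (fun _ _ => Commute.all _ _) x =
      Algebra.TensorProduct.lift (P i) (P j) (fun _ _ => Commute.all _ _) y) : x = y := by
  classical
  let f : A →ₗ[R] (ZMod p → R) := (evals P).toLinearMap
  have hf : Function.Injective f := by
    rw [← LinearMap.ker_eq_bot, LinearMap.ker_eq_bot']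
    exact fun a ha => hinj a fun i => congrFun ha i
  have hff : Function.Injective (TensorProduct.map f f) := by
    have e : TensorProduct.map f f = (LinearMap.lTensor _ f).comp (LinearMap.rTensor _ f) := by
      rw [← LinearMap.lTensor_comp_rTensor]
    rw [e]
    exact (Module.Flat.lTensor_preserves_injective_linearMap f hf).comp
      (Module.Flat.rTensor_preserves_injective_linearMap f hf)
  apply hff
  let b := (Pi.basisFun R (ZMod p)).tensorProduct (Pi.basisFun R (ZMod p))
  refine b.ext_elem fun ⟨i, j⟩ => ?_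
  have key : ∀ z : A ⊗[R] A, b.repr (TensorProduct.map f f z) (i, j) =
      Algebra.TensorProduct.lift (P i) (P j) (fun _ _ => Commute.all _ _) z := by
    intro z
    induction z using TensorProduct.induction_on with
    | zero => simp
    | tmul u v =>
      rw [TensorProduct.map_tmul, Algebra.TensorProduct.lift_tmul]
      simp [b, f, evals_apply, mul_comm]
    | add u v hu hv => rw [map_add, map_add, Finsupp.add_apply, hu, hv, map_add]
  rw [key, key, h]

open WithConv in
theorem lift_comul (i j : ZMod p) (a : A) :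
    Algebra.TensorProduct.lift (P i) (P j) (fun _ _ => Commute.all _ _) (CoalgebraStruct.comul (R := R) a) =
      (toConv (P i) * toConv (P j)).ofConv a := by
  rw [AlgHom.convMul_apply]

open WithConv in
/-- The character of the generic fibre lies in `A`. -/
theorem exists_chi [Module.Finite R A] [Module.Free R A] (hζ : IsPrimitiveRoot ζ p)
    (hinj : ∀ a, (∀ i, P i a = 0) → a = 0) (hrank : Module.finrank R A = p)
    (hmul : ∀ i j, toConv (P i) * toConv (P j) = toConv (P (i + j))) :
    ∃ χ : A, ∀ i, P i χ = ζ ^ i.val := by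
  classical
  let K := FractionRing R
  let b := Module.finBasisOfFinrankEq R A hrank
  -- a multiple of the character
  have hsur : ∃ (c : R) (a : A), c ≠ 0 ∧ ∀ i, P i a = c * ζ ^ i.val := by
    let f : (Fin p → R) →ₗ[R] (ZMod p → R) := (evals P).toLinearMap.comp b.equivFun.symm.toLinearMap
    have hf : Function.Injective f := by
      rw [← LinearMap.ker_eq_bot, LinearMap.ker_eq_bot']
      intro x hx
      have := hinj _ fun i => congrFun hx i
      exact b.equivFun.symm.injective (this.trans (map_zero _).symm)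
    let M : Matrix (ZMod p) (Fin p) R := LinearMap.toMatrix' f
    let eM : Fin p ≃ ZMod p := (ZMod.finEquiv p).toEquiv
    let N : Matrix (Fin p) (Fin p) R := M.submatrix eM id
    have hN : N.det ≠ 0 := by
      intro h0
      obtain ⟨v, hv, hv'⟩ := Matrix.exists_mulVec_eq_zero_iff.2 h0
      refine hv (hf ?_)
      rw [map_zero]
      funext i
      have := congrFun hv' (eM.symm i)
      simp only [N, Matrix.mulVec, dotProduct, Matrix.submatrix_apply, Equiv.apply_symm_apply, id, Pi.zero_apply] at this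
      rw [← LinearMap.toMatrix'_mulVec f v]
      exact this
    refine ⟨N.det, b.equivFun.symm (N.adjugate.mulVec fun j => ζ ^ (eM j).val), hN, fun i => ?_⟩
    have h1 : N.mulVec (N.adjugate.mulVec fun j => ζ ^ (eM j).val) = fun j => N.det * ζ ^ (eM j).val := by
      rw [Matrix.mulVec_mulVec, Matrix.mul_adjugate, Matrix.smul_mulVec, Matrix.one_mulVec]
      rfl
    have h2 := congrFun h1 (eM.symm i)
    rw [Equiv.apply_symm_apply] at h2
    rw [← h2]
    have h3 := congrFun (LinearMap.toMatrix'_mulVec f (N.adjugate.mulVec fun j => ζ ^ (eM j).val)) i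
    simp only [Matrix.mulVec, dotProduct, N, Matrix.submatrix_apply, Equiv.apply_symm_apply, id] at h3 ⊢
    exact h3.symm
  obtain ⟨c, a, hc, ha⟩ := hsur
  -- `c` divides the values of every functional at `a`
  have hmulrel : ∀ φ ψ : A →ₗ[R] R, φ a * ψ a = c * (LinearMap.mul' R R ∘ₗ TensorProduct.map φ ψ) (CoalgebraStruct.comul (R := R) a) := by
    intro φ ψ
    have e : a ⊗ₜ[R] a = c • CoalgebraStruct.comul (R := R) a := by
      refine tensor_ext P hinj fun i j => ?_
      rw [map_smul, lift_comul, hmul, Algebra.TensorProduct.lift_tmul, ha, ha, WithConv.ofConv_toConv, ha, smul_eq_mul,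
        ZMod.val_add, ← pow_eq_pow_mod _ hζ.pow_eq_one, pow_add]
      ring
    have e2 := congrArg (LinearMap.mul' R R ∘ₗ TensorProduct.map φ ψ) e
    rw [map_smul, smul_eq_mul] at e2
    exact e2
  let ev : (A →ₗ[R] R) →ₗ[R] K :=
    ((algebraMap R K c)⁻¹) • ((Algebra.linearMap R K).comp (LinearMap.applyₗ a))
  have hev : ∀ φ, ev φ = (algebraMap R K c)⁻¹ * algebraMap R K (φ a) := fun φ => rfl
  have hcK : algebraMap R K c ≠ 0 := by
    rw [Ne, map_eq_zero_iff _ (IsFractionRing.injective R K)]
    exact hc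
  let S : Subalgebra R K :=
    { carrier := Set.range ev
      mul_mem' := by
        rintro _ _ ⟨φ, rfl⟩ ⟨ψ, rfl⟩
        refine ⟨LinearMap.mul' R R ∘ₗ TensorProduct.map φ ψ ∘ₗ CoalgebraStruct.comul (R := R), ?_⟩
        rw [hev, hev, hev, mul_mul_mul_comm, ← map_mul (algebraMap R K) (φ a), hmulrel, map_mul]
        rw [LinearMap.comp_apply, LinearMap.comp_apply, LinearMap.comp_apply]
        rw [mul_assoc, ← mul_assoc (algebraMap R K c)⁻¹ (algebraMap R K c), inv_mul_cancel₀ hcK, one_mul]
      add_mem' := by rintro _ _ ⟨φ, rfl⟩ ⟨ψ, rfl⟩; exact ⟨φ + ψ, map_add ev φ ψ⟩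
      algebraMap_mem' := fun r => by
        refine ⟨r • (P 0).toLinearMap, ?_⟩
        rw [hev, LinearMap.smul_apply, AlgHom.toLinearMap_apply, ha, ZMod.val_zero, pow_zero, mul_one, smul_eq_mul,
          map_mul]
        rw [mul_left_comm, inv_mul_cancel₀ hcK, mul_one] }
  have hSfg : (Subalgebra.toSubmodule S).FG := by
    have : Subalgebra.toSubmodule S = LinearMap.range ev := SetLike.coe_injective rfl
    rw [this, ← Submodule.map_top]
    exact Submodule.FG.map _ Module.Finite.fg_top
  have hdvd : ∀ φ : A →ₗ[R] R, c ∣ φ a := fun φ => by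
    obtain ⟨r, hr⟩ := IsIntegrallyClosed.isIntegral_iff.1
      (_root_.IsIntegral.of_mem_of_fg S hSfg (ev φ) ⟨φ, rfl⟩)
    refine ⟨r, IsFractionRing.injective R K ?_⟩
    rw [map_mul, hr, hev]
    rw [mul_inv_cancel_left₀ hcK]
  choose q hq using fun j => hdvd (b.coord j)
  refine ⟨∑ j, q j • b j, fun i => mul_left_cancel₀ hc ?_⟩
  rw [← ha, ← smul_eq_mul, ← map_smul, Finset.smul_sum]
  congr 1
  conv_rhs => rw [← b.sum_repr a]
  refine Finset.sum_congr rfl fun j _ => ?_
  rw [smul_smul, ← hq j]
  rfl

/-- The coordinate ring of `G_{λ,N}` is spanned by `1, t, …, t^(N-1)`. -/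
theorem AK_span {R : Type u} [CommRing R] [IsDomain R] {lam : R} {N : ℕ} [NeZero N] (hlam : lam ≠ 0)
    (h : SekSuwa.DivCond lam N) :
    Submodule.span R (Set.range fun i : Fin N => (SekSuwa.AK.t : SekSuwa.AK R lam N h) ^ (i : ℕ)) = ⊤ := by
  classical
  let P := SekSuwa.psiPoly lam N h
  let B : R[X] := (1 + C lam * X) ^ N
  have hN : N ≠ 0 := NeZero.ne N
  have hdeg1 : (1 + C lam * X).natDegree = 1 := by
    rw [add_comm, ← C_1, natDegree_linear hlam]
  have hBdeg : B.natDegree = N := by rw [natDegree_pow, hdeg1, mul_one]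
  have hspec : C (lam ^ N) * P = B - 1 := SekSuwa.psiPoly_spec h
  have hdeg : P.natDegree = N := by
    have e := congrArg natDegree hspec
    rw [natDegree_C_mul (pow_ne_zero N hlam), ← C_1, natDegree_sub_C, hBdeg] at e
    exact e
  have hP : P.Monic := by
    have e := congrArg (fun q => coeff q N) hspec
    simp only [coeff_C_mul, coeff_sub, coeff_one, if_neg hN, sub_zero] at e
    have e2 : B.coeff N = lam ^ N := by
      have h3 : B.coeff B.natDegree = _ := leadingCoeff_pow (1 + C lam * X : R[X]) N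
      rw [hBdeg] at h3
      rw [h3, add_comm, ← C_1, leadingCoeff_linear hlam]
    rw [e2] at e
    rw [Monic, leadingCoeff, hdeg]
    exact mul_left_cancel₀ (pow_ne_zero N hlam) (e.trans (mul_one _).symm)
  have hgen : ∀ z : SekSuwa.AK R lam N h, ∃ q : R[X], aeval SekSuwa.AK.t q = z := by
    intro z
    obtain ⟨z, rfl⟩ := Ideal.Quotient.mk_surjective z
    obtain ⟨z, rfl⟩ := Ideal.Quotient.mk_surjective z
    have hinv : (SekSuwa.AK.inv : SekSuwa.AK R lam N h) = (1 + lam • SekSuwa.AK.t) ^ (N - 1) := by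
      have e1 : (1 + lam • (SekSuwa.AK.t : SekSuwa.AK R lam N h)) * SekSuwa.AK.inv = 1 := by
        have := congrArg (SekSuwa.AK.mkHom R lam N h) (SekSuwa.A.u_mul_inv (R := R) (lam := lam))
        rw [map_mul, map_one, SekSuwa.A.u, map_add, map_one, map_smul] at this
        exact this
      have hsucc : (1 + lam • (SekSuwa.AK.t : SekSuwa.AK R lam N h)) ^ N =
          (1 + lam • SekSuwa.AK.t) ^ (N - 1) * (1 + lam • SekSuwa.AK.t) := by
        rw [← pow_succ, Nat.sub_add_cancel (Nat.pos_of_ne_zero hN)]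
      calc (SekSuwa.AK.inv : SekSuwa.AK R lam N h) = (1 + lam • SekSuwa.AK.t) ^ N * SekSuwa.AK.inv := by
            rw [SekSuwa.AK.u_pow, one_mul]
        _ = _ := by rw [hsucc, mul_assoc, e1, mul_one]
    let π : SekSuwa.Poly R lam →ₐ[R] SekSuwa.AK R lam N h :=
      (SekSuwa.AK.mkHom R lam N h : SekSuwa.A R lam →ₐ[R] SekSuwa.AK R lam N h).comp (SekSuwa.A.mk R lam)
    have hfac : ((aeval SekSuwa.AK.t).comp (SekSuwa.Poly.aeval R lam X ((1 + C lam * X) ^ (N - 1)))) = π := by
      apply SekSuwa.Poly.algHom_ext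
      · rw [AlgHom.comp_apply, SekSuwa.Poly.aeval_x, aeval_X]
        rfl
      · rw [AlgHom.comp_apply, SekSuwa.Poly.aeval_y, map_pow, map_add, map_one, map_mul, aeval_C, aeval_X, ← Algebra.smul_def]
        exact hinv.symm
    exact ⟨_, AlgHom.congr_fun hfac z⟩
  rw [eq_top_iff]
  intro z _
  obtain ⟨q, rfl⟩ := hgen z
  rw [← modByMonic_add_div q (q := P), map_add, map_mul, SekSuwa.AK.aeval_t, zero_mul, add_zero]
  have hlt : (q %ₘ P).natDegree < N := hdeg ▸ natDegree_modByMonic_lt q hP (fun h1 => by simp [h1] at hdeg; exact hN hdeg.symm)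
  rw [aeval_eq_sum_range' hlt]
  exact Submodule.sum_mem _ fun i hi => Submodule.smul_mem _ _ (Submodule.subset_span ⟨⟨i, Finset.mem_range.1 hi⟩, rfl⟩)

open WithConv IsLocalRing in
/-- **Classification of the models of `ℤ/p`.** -/
theorem exists_bialgEquiv [Module.Finite R A] [Module.Free R A] [CharP (ResidueField R) p]
    (hζ : IsPrimitiveRoot ζ p)
    (hinj : ∀ a, (∀ i, P i a = 0) → a = 0) (hrank : Module.finrank R A = p)
    (hmul : ∀ i j, toConv (P i) * toConv (P j) = toConv (P (i + j))) :
    ∃ (lam : R) (h : SekSuwa.DivCond lam p), lam ≠ 0 ∧ Nonempty (SekSuwa.AK R lam p h ≃ₐc[R] A) := by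
  classical
  have hp1 : 1 < p := hp.out.one_lt
  haveI : NeZero p := ⟨hp.out.ne_zero⟩
  haveI : Fact (1 < p) := ⟨hp1⟩
  obtain ⟨χ, hχ⟩ := exists_chi ζ P hζ hinj hrank hmul
  have hinj' : ∀ a a', (∀ i, P i a = P i a') → a = a' := fun a a' h =>
    sub_eq_zero.1 (hinj _ fun i => by rw [map_sub, h, sub_self])
  have hP0 : ∀ a, P 0 a = CoalgebraStruct.counit (R := R) a := by
    have h0 : toConv (P 0) = 1 := by
      have h := hmul 0 0
      rw [add_zero] at h
      exact mul_left_cancel (h.trans (mul_one _).symm)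
    intro a
    have h := congrArg (fun z : WithConv (A →ₐ[R] R) => z.ofConv a) h0
    simpa [AlgHom.convOne_apply] using h
  have hεχ : CoalgebraStruct.counit (R := R) χ = 1 := by rw [← hP0, hχ, ZMod.val_zero, pow_zero]
  have hΔχ : CoalgebraStruct.comul (R := R) χ = χ ⊗ₜ χ := tensor_ext P hinj fun i j => by
    rw [lift_comul, hmul, Algebra.TensorProduct.lift_tmul, WithConv.ofConv_toConv, hχ, hχ, hχ, ZMod.val_add,
      ← pow_eq_pow_mod _ hζ.pow_eq_one, pow_add]
  have hχp : χ ^ p = 1 := hinj' _ _ fun i => by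
    rw [map_pow, hχ, map_one, ← pow_mul, mul_comm, pow_mul, hζ.pow_eq_one, one_pow]
  -- the content of `χ - 1`
  let b := Module.finBasisOfFinrankEq R A hrank
  have hζ1 : ζ - 1 ≠ 0 := sub_ne_zero.2 (hζ.ne_one hp1)
  have hP1 : P 1 (χ - 1) = ζ - 1 := by rw [map_sub, hχ, map_one, ZMod.val_one, pow_one]
  let I := Ideal.span (Set.range fun j => b.repr (χ - 1) j)
  obtain ⟨lam, hlam⟩ := (IsPrincipalIdealRing.principal I).principal
  have hlam' : I = Ideal.span {lam} := hlam
  have hdiv : ∀ j, lam ∣ b.repr (χ - 1) j := fun j =>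
    Ideal.mem_span_singleton.1 (hlam' ▸ Ideal.subset_span ⟨j, rfl⟩)
  choose tc htc using hdiv
  let t : A := ∑ j, tc j • b j
  have hlt : lam • t = χ - 1 := by
    conv_rhs => rw [← b.sum_repr (χ - 1)]
    rw [Finset.smul_sum]
    exact Finset.sum_congr rfl fun j _ => by rw [smul_smul, ← htc]
  have hlam0 : lam ≠ 0 := by
    rintro rfl
    rw [zero_smul] at hlt
    exact hζ1 (by rw [← hP1, ← hlt, map_zero])
  have hχt : χ = 1 + lam • t := by rw [hlt]; ring
  have hcancel : ∀ {M : Type u} [AddCommGroup M] [Module R M] [Module.Free R M] (x y : M), lam • x = lam • y → x = y :=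
    fun x y h => smul_right_injective _ hlam0 h
  have hεt : CoalgebraStruct.counit (R := R) t = 0 := by
    refine hcancel _ _ ?_
    rw [smul_zero, ← map_smul, hlt, map_sub, hεχ, Bialgebra.counit_one, sub_self]
  have hΔt : CoalgebraStruct.comul (R := R) t = t ⊗ₜ 1 + 1 ⊗ₜ t + lam • (t ⊗ₜ t) := by
    refine hcancel _ _ ?_
    rw [← map_smul, hlt, map_sub, hΔχ, Bialgebra.comul_one, hχt, Algebra.TensorProduct.one_def]
    simp only [add_tmul, tmul_add, smul_add, tmul_smul, ← smul_tmul', smul_smul]
    abel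
  -- the divisibility condition
  have hpdvd : lam ^ (p - 1) ∣ (p : R) := by
    have hprod : ∀ i ∈ Finset.range (p - 1), lam ∣ 1 - ζ ^ (i + 1) := fun i hi => by
      have hi' : i + 1 < p := by simp at hi; omega
      refine ⟨-P ((i + 1 : ℕ) : ZMod p) t, ?_⟩
      have h := congrArg (P ((i + 1 : ℕ) : ZMod p)) hlt
      rw [map_smul, map_sub, map_one, hχ, ZMod.val_natCast_of_lt hi', smul_eq_mul] at h
      linear_combination h
    obtain ⟨n, hn⟩ : ∃ n, p = n + 1 := ⟨p - 1, by omega⟩
    have hprime : IsPrimitiveRoot ζ (n + 1) := hn ▸ hζ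
    have e := hprime.prod_one_sub_pow_eq_order
    rw [show p - 1 = n by omega] at hprod ⊢
    rw [hn, Nat.cast_add, Nat.cast_one, ← e]
    calc lam ^ n = ∏ _i ∈ Finset.range n, lam := by rw [Finset.prod_const, Finset.card_range]
      _ ∣ _ := Finset.prod_dvd_prod_of_dvd _ _ hprod
  have hcond : SekSuwa.DivCond lam p := by
    refine ⟨mem_nonZeroDivisors_of_ne_zero hlam0, ?_⟩
    have hk : ∀ m ∈ Finset.range p, lam ^ p ∣ lam ^ (m + 1) * (p.choose (m + 1) : R) := by
      intro m hm
      rcases eq_or_ne (m + 1) p with h | h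
      · rw [h]; exact dvd_mul_right _ _
      · obtain ⟨q, hq⟩ := Nat.Prime.dvd_choose_self hp.out (Nat.succ_ne_zero m) (by simp at hm; omega)
        have h1 : lam ^ p = lam ^ 1 * lam ^ (p - 1) := by rw [← pow_add]; congr 1; omega
        rw [hq, Nat.cast_mul, h1]
        exact mul_dvd_mul (pow_dvd_pow _ (Nat.succ_pos m)) (hpdvd.trans (dvd_mul_right _ _))
    choose q hq using hk
    refine ⟨∑ m ∈ (Finset.range p).attach, C (q m.1 m.2) * X ^ (m.1 + 1), ?_⟩
    rw [add_comm 1 (C lam * X), add_pow, Finset.mul_sum, Finset.sum_range_succ', Nat.choose_zero_right, pow_zero,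
      Nat.sub_zero, one_pow]
    simp only [one_pow, mul_one, Nat.cast_one]
    rw [add_sub_cancel_right, ← Finset.sum_attach (Finset.range p) fun m => _]
    refine Finset.sum_congr rfl fun m _ => ?_
    rw [← mul_assoc, ← map_mul, ← hq m.1 m.2, map_mul, mul_pow, map_pow, map_natCast]
    ring
  -- the comparison map
  let inv : A := χ ^ (p - 1)
  have hu : (1 + lam • t) * inv = 1 := by
    rw [← hχt, ← pow_succ', Nat.sub_add_cancel hp1.le, hχp]
  let f₀ : SekSuwa.A R lam →ₐ[R] A := SekSuwa.A.lift R lam t inv hu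
  have hker : ∀ z ∈ SekSuwa.kerIdeal lam p hcond, f₀ z = 0 := by
    intro z hz
    obtain ⟨w, rfl⟩ := Ideal.mem_span_singleton'.1 hz
    have hgen : f₀ (SekSuwa.kerGen lam p hcond) = 0 := by
      rw [SekSuwa.kerGen, ← Polynomial.aeval_algHom_apply, SekSuwa.A.lift_t]
      refine smul_right_injective A (pow_ne_zero p hlam0) ?_
      show lam ^ p • _ = lam ^ p • (0 : A)
      rw [smul_zero, Algebra.smul_def, SekSuwa.aeval_psiPoly, ← Algebra.smul_def, ← hχt, hχp, sub_self]
    rw [map_mul, hgen, mul_zero]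
  let f : SekSuwa.AK R lam p hcond →ₐ[R] A := Ideal.Quotient.liftₐ _ f₀ hker
  have hft : f SekSuwa.AK.t = t := SekSuwa.A.lift_t _ _ hu
  have hfi : f SekSuwa.AK.inv = inv := SekSuwa.A.lift_inv _ _ hu
  let F : SekSuwa.AK R lam p hcond →ₐc[R] A := BialgHom.ofAlgHom f
    (by
      apply SekSuwa.AK.algHom_ext
      · rw [AlgHom.comp_apply, hft]
        exact hεt.trans (SekSuwa.AK.counit_t (R := R) (lam := lam) (N := p) (h := hcond)).symm
      · rw [AlgHom.comp_apply, hfi]
        show Bialgebra.counitAlgHom R A (χ ^ (p - 1)) = _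
        rw [map_pow]
        show CoalgebraStruct.counit (R := R) χ ^ (p - 1) = _
        rw [hεχ, one_pow]
        exact (SekSuwa.AK.counit_inv (R := R) (lam := lam) (N := p) (h := hcond)).symm)
    (by
      apply SekSuwa.AK.algHom_ext
      · rw [AlgHom.comp_apply, AlgHom.comp_apply, hft]
        show Algebra.TensorProduct.map f f (CoalgebraStruct.comul (R := R) SekSuwa.AK.t) = CoalgebraStruct.comul (R := R) t
        rw [SekSuwa.AK.comul_t, hΔt, map_add, map_add, map_smul, Algebra.TensorProduct.map_tmul,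
          Algebra.TensorProduct.map_tmul, Algebra.TensorProduct.map_tmul, map_one, hft]
      · rw [AlgHom.comp_apply, AlgHom.comp_apply, hfi]
        show Algebra.TensorProduct.map f f (CoalgebraStruct.comul (R := R) SekSuwa.AK.inv) =
          Bialgebra.comulAlgHom R A (χ ^ (p - 1))
        rw [SekSuwa.AK.comul_inv, Algebra.TensorProduct.map_tmul, hfi, map_pow]
        show _ = CoalgebraStruct.comul (R := R) χ ^ (p - 1)
        rw [hΔχ, Algebra.TensorProduct.tmul_pow])
  -- `A` is spanned by `1, t, …, t^(p-1)`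
  let k := ResidueField R
  let q : A →ₐ[R] k ⊗[R] A := Algebra.TensorProduct.includeRight
  let bk := Algebra.TensorProduct.basis k b
  have htne : q t ≠ 0 := by
    intro h0
    have hmem : ∀ j, tc j ∈ maximalIdeal R := fun j => by
      refine (residue_eq_zero_iff (tc j)).1 ?_
      show algebraMap R k (tc j) = 0
      have h := congrArg (fun z => bk.repr z j) h0
      simp only [q, Algebra.TensorProduct.includeRight_apply, bk, Algebra.TensorProduct.basis_repr_tmul,
        map_zero, Finsupp.zero_apply] at h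
      simpa [t, Finsupp.single_apply, b.repr_self] using h
    obtain ⟨r, hr⟩ : ∃ r ∈ maximalIdeal R, lam * r = lam := by
      have hI : I ≤ Ideal.span {lam} * maximalIdeal R := Ideal.span_le.2 (by
        rintro _ ⟨j, rfl⟩
        show b.repr (χ - 1) j ∈ _
        rw [htc]
        exact Ideal.mul_mem_mul (Ideal.mem_span_singleton_self _) (hmem j))
      exact Ideal.mem_span_singleton_mul.1 (hI (hlam' ▸ Ideal.mem_span_singleton_self lam))
    exact (mem_maximalIdeal r).1 hr.1 (by rw [mul_right_eq_self₀.1 hr.2 |>.resolve_right hlam0]; exact isUnit_one)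
  let Q : A ⊗[R] A →ₐ[R] (k ⊗[R] A) ⊗[k] (k ⊗[R] A) :=
    Algebra.TensorProduct.lift
      (((Algebra.TensorProduct.includeLeft : k ⊗[R] A →ₐ[k] (k ⊗[R] A) ⊗[k] (k ⊗[R] A)).restrictScalars R).comp q)
      (((Algebra.TensorProduct.includeRight : k ⊗[R] A →ₐ[k] (k ⊗[R] A) ⊗[k] (k ⊗[R] A)).restrictScalars R).comp q)
      (fun _ _ => Commute.all _ _)
  let Δk : k ⊗[R] A →ₐ[k] (k ⊗[R] A) ⊗[k] (k ⊗[R] A) :=
    Algebra.TensorProduct.lift (Algebra.ofId k _) (Q.comp (Bialgebra.comulAlgHom R A)) (fun _ _ => Commute.all _ _)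
  let εk : k ⊗[R] A →ₐ[k] k :=
    Algebra.TensorProduct.lift (Algebra.ofId k _) ((Algebra.ofId R k).comp (Bialgebra.counitAlgHom R A))
      (fun _ _ => Commute.all _ _)
  have hQ : ∀ x y : A, Q (x ⊗ₜ y) = q x ⊗ₜ q y := fun x y => by simp [Q, Algebra.TensorProduct.tmul_mul_tmul]
  have hind := indep (p := p) Δk εk (q t) (residue R lam)
    (by
      simp only [Δk, q, Algebra.TensorProduct.includeRight_apply, Algebra.TensorProduct.lift_tmul, map_one, one_mul,
        AlgHom.comp_apply]
      show Q (CoalgebraStruct.comul (R := R) t) = _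
      rw [hΔt, map_add, map_add, map_smul, hQ, hQ, hQ, map_one]
      rw [show residue R lam = algebraMap R k lam from rfl, algebraMap_smul]
      rfl)
    (by
      simp only [εk, q, Algebra.TensorProduct.includeRight_apply, Algebra.TensorProduct.lift_tmul, map_one, one_mul,
        AlgHom.comp_apply]
      show algebraMap R k (CoalgebraStruct.counit (R := R) t) = 0
      rw [hεt, map_zero])
    htne
    (by rw [show residue R lam = algebraMap R k lam from rfl, algebraMap_smul, ← map_smul, ← map_one q, ← map_add,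
      ← map_pow, ← hχt, hχp])
  have hspan : Submodule.span R (Set.range fun i : Fin p => t ^ (i : ℕ)) = ⊤ := by
    refine IsLocalRing.span_eq_top_of_tmul_eq_basis (R := R) (M := A) (ι := Fin p) (fun i : Fin p => t ^ (i : ℕ))
      (basisOfLinearIndependentOfCardEqFinrank hind ?_) fun i => ?_
    · rw [Fintype.card_fin, Module.finrank_eq_card_basis bk, Fintype.card_fin]
    · rw [coe_basisOfLinearIndependentOfCardEqFinrank]
      show (1 : k) ⊗ₜ[R] (t ^ (i : ℕ)) = q t ^ (i : ℕ)
      rw [← map_pow]
      rfl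
  refine ⟨lam, hcond, hlam0, ⟨BialgEquiv.ofBijective F ⟨?_, ?_⟩⟩⟩
  rotate_left
  · intro a
    have ha : a ∈ Submodule.span R (Set.range fun i : Fin p => t ^ (i : ℕ)) := hspan ▸ Submodule.mem_top
    obtain ⟨c, rfl⟩ := (Submodule.mem_span_range_iff_exists_fun R).1 ha
    exact ⟨∑ i, c i • SekSuwa.AK.t ^ (i : ℕ), by
      show f _ = _
      simp [map_sum, hft]⟩
  · -- `AK` is spanned by `1, t, …, t^(p-1)`
    have hgen : Submodule.span R (Set.range fun i : Fin p => (SekSuwa.AK.t : SekSuwa.AK R lam p hcond) ^ (i : ℕ)) = ⊤ := by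
      exact AK_span hlam0 hcond
    let ψ := Fintype.linearCombination R fun i : Fin p => (SekSuwa.AK.t : SekSuwa.AK R lam p hcond) ^ (i : ℕ)
    have hψ : Function.Surjective ψ := by
      rw [← LinearMap.range_eq_top, Fintype.range_linearCombination]
      exact hgen
    let e : (Fin p → R) ≃ₗ[R] A := b.equivFun.symm
    have hFψ : Function.Surjective (e.symm.toLinearMap.comp (f.toLinearMap.comp ψ)) := by
      have hfs : Function.Surjective f := fun a => by
        have ha : a ∈ Submodule.span R (Set.range fun i : Fin p => t ^ (i : ℕ)) := hspan ▸ Submodule.mem_top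
        obtain ⟨c, rfl⟩ := (Submodule.mem_span_range_iff_exists_fun R).1 ha
        exact ⟨∑ i, c i • SekSuwa.AK.t ^ (i : ℕ), by simp [map_sum, hft]⟩
      exact e.symm.surjective.comp (hfs.comp hψ)
    have hbij := (OrzechProperty.bijective_of_surjective_endomorphism _ hFψ).1
    intro x y hxy
    obtain ⟨x, rfl⟩ := hψ x
    obtain ⟨y, rfl⟩ := hψ y
    exact congrArg ψ (hbij (congrArg e.symm hxy))

end Groth.L08.SekSuwaPrime
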