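import Mathlib.RingTheory.HopfAlgebra.Convolution
import Mathlib.RingTheory.Bialgebra.Hom
import Mathlib.RingTheory.Ideal.Quotient.Operations
import Mathlib.RingTheory.TensorProduct.Maps

/-!
# The shear isomorphism `A ⊗_B A ≅ A ⊗ A/B⁺A` over a base ring

Adapted from `Groth.Agent.L25.HopfFlat` (base field, retraction) to a base ring and an isomorphism.
-/

set_option autoImplicit false

universe u

open TensorProduct WithConv

namespace Groth.L08.Shear

theorem cancel_left {M : Type*} [Monoid M] {a b : M} (h : a * b = 1) (c : M) : a * (b * c) = c := by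
  rw [← mul_assoc, h, one_mul]

section shear

variable {k : Type u} [CommRing k] {A B : Type u} [CommRing A] [HopfAlgebra k A] [CommRing B]
  [HopfAlgebra k B] [Algebra B A] [IsScalarTower k B A]

theorem conv_antipode {R' : Type u} [CommRing R'] [Algebra k R'] (g : A →ₐ[k] R') :
    toConv g * toConv (g.comp (HopfAlgebra.antipodeAlgHom k A)) = 1 ∧
      toConv (g.comp (HopfAlgebra.antipodeAlgHom k A)) * toConv g = 1 := by
  have h1 := mul_inv_cancel (toConv (AlgHom.id k A) : WithConv (A →ₐ[k] A))
  have h2 := inv_mul_cancel (toConv (AlgHom.id k A) : WithConv (A →ₐ[k] A))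
  constructor
  · have h := congrArg (fun f : WithConv (A →ₐ[k] A) => g.comp f.ofConv) h1
    simp only [AlgHom.comp_convMul_distrib] at h
    refine WithConv.ext (h.trans (AlgHom.ext fun a => ?_))
    exact g.commutes _
  · have h := congrArg (fun f : WithConv (A →ₐ[k] A) => g.comp f.ofConv) h2
    simp only [AlgHom.comp_convMul_distrib] at h
    refine WithConv.ext (h.trans (AlgHom.ext fun a => ?_))
    exact g.commutes _

/-- `A ⊗_B A ≅ A ⊗ A/B⁺A`, as algebras over the left factor. -/
theorem exists_shear (φ : B →ₐc[k] A) (hφ : ∀ b, φ b = algebraMap B A b) :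
    Nonempty ((A ⊗[B] A) ≃ₐ[A]
      A ⊗[k] (A ⧸ (RingHom.ker (Bialgebra.counitAlgHom k B)).map (algebraMap B A))) := by
  let J : Ideal A := (RingHom.ker (Bialgebra.counitAlgHom k B)).map (algebraMap B A)
  let C := A ⧸ J
  let φa : B →ₐ[k] A := (φ : B →ₐ[k] A)
  -- the shear
  let L : A →ₐ[k] A ⊗[k] C := Algebra.TensorProduct.includeLeft
  let Rq : A →ₐ[k] A ⊗[k] C :=
    (Algebra.TensorProduct.includeRight).comp (Ideal.Quotient.mkₐ k J)
  let ρ : WithConv (A →ₐ[k] A ⊗[k] C) := toConv L * toConv Rq
  have hρ : ρ.ofConv.comp φa = L.comp φa := by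
    have h1 : toConv (Rq.comp φa) = (1 : WithConv (B →ₐ[k] A ⊗[k] C)) := by
      refine WithConv.ext (AlgHom.ext fun b => ?_)
      change (1 : A) ⊗ₜ[k] Ideal.Quotient.mk J (φ b) =
        algebraMap k (A ⊗[k] C) (Coalgebra.counit b)
      have h2 : Ideal.Quotient.mk J (φ b) = algebraMap k C (Coalgebra.counit b) := by
        rw [IsScalarTower.algebraMap_apply k A C, Ideal.Quotient.algebraMap_eq,
          Ideal.Quotient.mk_eq_mk_iff_sub_mem, hφ, IsScalarTower.algebraMap_apply k B A,
          ← map_sub]
        exact Ideal.mem_map_of_mem _ (by simp [RingHom.mem_ker])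
      rw [h2, Algebra.algebraMap_eq_smul_one, Algebra.algebraMap_eq_smul_one,
        TensorProduct.tmul_smul]
      rfl
    rw [show ρ.ofConv.comp φa = _ from AlgHom.convMul_comp_bialgHom_distrib _ _ φ]
    simp only [WithConv.ofConv_toConv]
    rw [h1]
    exact congrArg WithConv.ofConv (_root_.mul_one (toConv (L.comp φa) : WithConv (B →ₐ[k] A ⊗[k] C)))
  let Θ : A ⊗[B] A →ₐ[A] A ⊗[k] C :=
    Algebra.TensorProduct.lift (Algebra.ofId A (A ⊗[k] C))
      ({ ρ.ofConv.toRingHom with
          commutes' := fun b => by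
            have := AlgHom.congr_fun hρ b
            simp only [AlgHom.comp_apply, φa] at this
            change ρ.ofConv (algebraMap B A b) = _
            rw [← hφ]
            refine this.trans ?_
            change φ b ⊗ₜ[k] (1 : C) = _
            rw [hφ]
            rfl } : A →ₐ[B] A ⊗[k] C)
      (fun _ _ => Commute.all _ _)
  -- its inverse
  let il : A →ₐ[k] A ⊗[B] A := Algebra.TensorProduct.includeLeft
  let ir : A →ₐ[k] A ⊗[B] A := (Algebra.TensorProduct.includeRight).restrictScalars k
  let χ : WithConv (A →ₐ[k] A ⊗[B] A) :=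
    toConv (il.comp (HopfAlgebra.antipodeAlgHom k A)) * toConv ir
  have hχ : χ.ofConv.comp φa = ((Algebra.ofId k (A ⊗[B] A)).comp (Bialgebra.counitAlgHom k B)) := by
    have h1 : ir.comp φa = il.comp φa := by
      refine AlgHom.ext fun b => ?_
      change (1 : A) ⊗ₜ[B] φ b = φ b ⊗ₜ[B] (1 : A)
      rw [hφ, Algebra.algebraMap_eq_smul_one, ← TensorProduct.smul_tmul]
    have h2 := congrArg WithConv.ofConv (conv_antipode il).2
    have h3 := congrArg (fun g : A →ₐ[k] A ⊗[B] A => g.comp φa) h2
    rw [show (ofConv (toConv (il.comp (HopfAlgebra.antipodeAlgHom k A)) * toConv il)).comp φa = _ from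
      AlgHom.convMul_comp_bialgHom_distrib _ _ φ] at h3
    rw [show χ.ofConv.comp φa = _ from AlgHom.convMul_comp_bialgHom_distrib _ _ φ]
    simp only [WithConv.ofConv_toConv] at h3 ⊢
    rw [show (ir.comp (φ : B →ₐ[k] A)) = il.comp (φ : B →ₐ[k] A) from h1]
    refine h3.trans ?_
    refine AlgHom.ext fun b => ?_
    change algebraMap k (A ⊗[B] A) (Coalgebra.counit (φ b)) = _
    rw [CoalgHomClass.counit_comp_apply]
    rfl
  have hJ : ∀ a ∈ J, χ.ofConv a = 0 := by
    intro a ha
    have : J ≤ RingHom.ker χ.ofConv := by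
      rw [Ideal.map_le_iff_le_comap]
      intro b hb
      have := AlgHom.congr_fun hχ b
      rw [Ideal.mem_comap, RingHom.mem_ker, ← hφ]
      refine this.trans ?_
      change algebraMap k _ (Bialgebra.counitAlgHom k B b) = 0
      rw [RingHom.mem_ker] at hb
      rw [hb, map_zero]
    exact this ha
  let Ψ : A ⊗[k] C →ₐ[A] A ⊗[B] A :=
    Algebra.TensorProduct.lift (Algebra.ofId A (A ⊗[B] A)) (Ideal.Quotient.liftₐ J χ.ofConv hJ)
      (fun _ _ => Commute.all _ _)
  have hΨΘ : Ψ.comp Θ = AlgHom.id A _ := by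
    refine Algebra.TensorProduct.ext_ring ?_
    refine AlgHom.ext fun a => ?_
    have e1 : (Ψ.restrictScalars k).comp L = il := by
      refine AlgHom.ext fun x => ?_
      simp [Ψ, L, il]
    have e2 : (Ψ.restrictScalars k).comp Rq = χ.ofConv := by
      refine AlgHom.ext fun x => ?_
      simp only [Ψ, Rq, AlgHom.comp_apply, AlgHom.restrictScalars_apply,
        Algebra.TensorProduct.includeRight_apply, Algebra.TensorProduct.lift_tmul, map_one]
      rw [_root_.one_mul]
      rfl
    have e3 : (Ψ.restrictScalars k).comp ρ.ofConv = ir := by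
      rw [show (Ψ.restrictScalars k).comp ρ.ofConv = _ from
        AlgHom.comp_convMul_distrib _ _ _]
      simp only [WithConv.ofConv_toConv, e1, e2]
      change ofConv (toConv il * (toConv (il.comp (HopfAlgebra.antipodeAlgHom k A)) * toConv ir)) = ir
      rw [← mul_assoc, (conv_antipode il).1]
      exact congrArg WithConv.ofConv (_root_.one_mul _)
    have := AlgHom.congr_fun e3 a
    simp only [AlgHom.comp_apply, AlgHom.restrictScalars_apply] at this
    simpa [Θ, ir] using this
  have hΘΨ : Θ.comp Ψ = AlgHom.id A _ := by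
    refine Algebra.TensorProduct.ext_ring ?_
    refine Ideal.Quotient.algHom_ext k ?_
    have e1 : (Θ.restrictScalars k).comp il = L := by
      refine AlgHom.ext fun x => ?_
      simp [Θ, L, il]
      rfl
    have e2 : (Θ.restrictScalars k).comp ir = ρ.ofConv := by
      refine AlgHom.ext fun x => ?_
      simp only [Θ, ir, AlgHom.comp_apply, AlgHom.restrictScalars_apply,
        Algebra.TensorProduct.includeRight_apply, Algebra.TensorProduct.lift_tmul, map_one]
      rw [_root_.one_mul]
      rfl
    have e3 : (Θ.restrictScalars k).comp χ.ofConv = Rq := by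
      rw [show (Θ.restrictScalars k).comp χ.ofConv = _ from AlgHom.comp_convMul_distrib _ _ _]
      simp only [WithConv.ofConv_toConv, e2, ← AlgHom.comp_assoc, e1]
      change ofConv (toConv (L.comp (HopfAlgebra.antipodeAlgHom k A)) * (toConv L * toConv Rq)) = Rq
      exact congrArg WithConv.ofConv (cancel_left (M := WithConv (A →ₐ[k] A ⊗[k] C)) (conv_antipode L).2 (toConv Rq))
    refine AlgHom.ext fun a => ?_
    have := AlgHom.congr_fun e3 a
    simp only [AlgHom.comp_apply, AlgHom.restrictScalars_apply] at this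
    simp only [AlgHom.comp_apply, AlgHom.id_apply, AlgHom.restrictScalars_apply,
      Algebra.TensorProduct.includeRight_apply, Ideal.Quotient.mkₐ_eq_mk]
    refine Eq.trans ?_ this
    show Θ (Ψ (1 ⊗ₜ[k] Ideal.Quotient.mk J a)) = _
    rw [Algebra.TensorProduct.lift_tmul, map_one, _root_.one_mul]
    rfl
  exact ⟨AlgEquiv.ofAlgHom Θ Ψ hΘΨ hΨΘ⟩

end shear

end Groth.L08.Shear
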