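import Mathlib.RingTheory.HopfAlgebra.Convolution
import Mathlib.RingTheory.Bialgebra.Hom
import Mathlib.RingTheory.Flat.Basic
import Mathlib.RingTheory.Flat.Stability

/-!
# Hopf subalgebras over a base ring

Adapted from `Groth.Agent.L25.HopfSub` (base field) to flat subalgebras over a base ring.
-/

set_option autoImplicit false

universe u

open TensorProduct

namespace Groth.L08.SubHopf

variable {k : Type u} [CommRing k] {A : Type u} [CommRing A] [HopfAlgebra k A] [Module.Flat k A] {B : Subalgebra k A}
  [Module.Flat k B]

variable (B) in
/-- The inclusion of `B ⊗ B` in `A ⊗ A`. -/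
noncomputable abbrev j : B ⊗[k] B →ₐ[k] A ⊗[k] A := Algebra.TensorProduct.map B.val B.val

theorem j_injective : Function.Injective (j B) :=
  TensorProduct.map_injective_of_flat_flat B.val.toLinearMap B.val.toLinearMap
    Subtype.val_injective Subtype.val_injective

variable (hB : (∀ b ∈ B, CoalgebraStruct.comul (R := k) b ∈ Set.range (Algebra.TensorProduct.map B.val B.val)) ∧
  ∀ b ∈ B, HopfAlgebraStruct.antipode k b ∈ B)

/-- The comultiplication of a Hopf subalgebra. -/
noncomputable def comulB : B →ₐ[k] B ⊗[k] B :=
  (AlgEquiv.ofInjective (j B) j_injective).symm.toAlgHom.comp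
    (((Bialgebra.comulAlgHom k A).comp B.val).codRestrict (j B).range fun b => by
      obtain ⟨z, hz⟩ := hB.1 b b.2
      exact ⟨z, hz⟩)

theorem j_comulB (b : B) : j B (comulB hB b) = Coalgebra.comul (R := k) (b : A) := by
  simp only [comulB, AlgHom.comp_apply]
  exact congrArg Subtype.val ((AlgEquiv.ofInjective (j B) j_injective).apply_symm_apply _)

/-- The counit of a Hopf subalgebra. -/
noncomputable abbrev counitB (B : Subalgebra k A) : B →ₐ[k] k :=
  (Bialgebra.counitAlgHom k A).comp B.val

theorem coassocB : (Algebra.TensorProduct.assoc k k k B B B).toAlgHom.comp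
    ((Algebra.TensorProduct.map (comulB hB) (.id k B)).comp (comulB hB)) =
    (Algebra.TensorProduct.map (.id k B) (comulB hB)).comp (comulB hB) := by
  have hinj : Function.Injective (Algebra.TensorProduct.map B.val (j B)) :=
    TensorProduct.map_injective_of_flat_flat B.val.toLinearMap (j B).toLinearMap
      Subtype.val_injective j_injective
  refine AlgHom.ext fun b => hinj ?_
  have h1 : ∀ z : B ⊗[k] B, Algebra.TensorProduct.map B.val (j B)
      (Algebra.TensorProduct.map (.id k B) (comulB hB) z) =
        (Bialgebra.comulAlgHom k A).toLinearMap.lTensor A (j B z) := by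
    intro z
    induction z using TensorProduct.induction_on with
    | zero => simp
    | tmul x y => simp [j_comulB]
    | add x y hx hy => simp only [map_add, hx, hy]
  have h2 : ∀ z : B ⊗[k] B, Algebra.TensorProduct.map B.val (j B)
      (Algebra.TensorProduct.assoc k k k B B B
        (Algebra.TensorProduct.map (comulB hB) (.id k B) z)) =
        TensorProduct.assoc k A A A
          ((Bialgebra.comulAlgHom k A).toLinearMap.rTensor A (j B z)) := by
    intro z
    induction z using TensorProduct.induction_on with
    | zero => simp
    | tmul x y =>
      have h3 : ∀ w : B ⊗[k] B, Algebra.TensorProduct.map B.val (j B)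
          (Algebra.TensorProduct.assoc k k k B B B (w ⊗ₜ y)) =
          TensorProduct.assoc k A A A (j B w ⊗ₜ (y : A)) := by
        intro w
        induction w using TensorProduct.induction_on with
        | zero => simp
        | tmul s t => rfl
        | add s t hs ht => simp only [TensorProduct.add_tmul, map_add, hs, ht]
      simp [h3, j_comulB]
    | add x y hx hy => simp only [map_add, hx, hy]
  simp only [AlgHom.comp_apply, h1, j_comulB]
  refine (h2 _).trans ?_
  rw [j_comulB]
  exact Coalgebra.coassoc_apply (R := k) (b : A)

theorem rTensorB : (Algebra.TensorProduct.map (counitB B) (.id k B)).comp (comulB hB) =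
    (Algebra.TensorProduct.lid k B).symm := by
  have hinj : Function.Injective (Algebra.TensorProduct.map (.id k k) B.val) :=
    Module.Flat.lTensor_preserves_injective_linearMap B.val.toLinearMap Subtype.val_injective
  refine AlgHom.ext fun b => hinj ?_
  have h : ∀ z : B ⊗[k] B, Algebra.TensorProduct.map (.id k k) B.val
      (Algebra.TensorProduct.map (counitB B) (.id k B) z) =
        (Coalgebra.counit (R := k) (A := A)).rTensor A (j B z) := by
    intro z
    induction z using TensorProduct.induction_on with
    | zero => simp
    | tmul x y => simp
    | add x y hx hy => simp only [map_add, hx, hy]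
  simp only [AlgHom.comp_apply, h, j_comulB, Coalgebra.rTensor_counit_comul]
  rfl

theorem lTensorB : (Algebra.TensorProduct.map (.id k B) (counitB B)).comp (comulB hB) =
    (Algebra.TensorProduct.rid k k B).symm := by
  have hinj : Function.Injective (Algebra.TensorProduct.map B.val (.id k k)) :=
    Module.Flat.rTensor_preserves_injective_linearMap B.val.toLinearMap Subtype.val_injective
  refine AlgHom.ext fun b => hinj ?_
  have h : ∀ z : B ⊗[k] B, Algebra.TensorProduct.map B.val (.id k k)
      (Algebra.TensorProduct.map (.id k B) (counitB B) z) =
        (Coalgebra.counit (R := k) (A := A)).lTensor A (j B z) := by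
    intro z
    induction z using TensorProduct.induction_on with
    | zero => simp
    | tmul x y => simp
    | add x y hx hy => simp only [map_add, hx, hy]
  simp only [AlgHom.comp_apply, h, j_comulB, Coalgebra.lTensor_counit_comul]
  rfl

/-- The antipode of a Hopf subalgebra. -/
noncomputable def antipodeB : B →ₐ[k] B :=
  ((HopfAlgebra.antipodeAlgHom k A).comp B.val).codRestrict B fun b => hB.2 b b.2

theorem antipode_axioms :
    ((Algebra.TensorProduct.lift (antipodeB hB) (.id k B) fun _ _ => Commute.all _ _).comp
      (comulB hB) = (Algebra.ofId k B).comp (counitB B)) ∧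
    ((Algebra.TensorProduct.lift (.id k B) (antipodeB hB) fun _ _ => Commute.all _ _).comp
      (comulB hB) = (Algebra.ofId k B).comp (counitB B)) := by
  constructor
  · refine AlgHom.ext fun b => Subtype.ext ?_
    have h : ∀ z : B ⊗[k] B, ((Algebra.TensorProduct.lift (antipodeB hB) (.id k B)
        (fun _ _ => Commute.all _ _) z : B) : A) =
        LinearMap.mul' k A ((HopfAlgebraStruct.antipode k (A := A)).rTensor A (j B z)) := by
      intro z
      induction z using TensorProduct.induction_on with
      | zero => simp
      | tmul x y =>
        simp [antipodeB] <;> rfl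
      | add x y hx hy => simp only [map_add, Subalgebra.coe_add, hx, hy]
    simp [AlgHom.comp_apply, h, j_comulB]
  · refine AlgHom.ext fun b => Subtype.ext ?_
    have h : ∀ z : B ⊗[k] B, ((Algebra.TensorProduct.lift (.id k B) (antipodeB hB)
        (fun _ _ => Commute.all _ _) z : B) : A) =
        LinearMap.mul' k A ((HopfAlgebraStruct.antipode k (A := A)).lTensor A (j B z)) := by
      intro z
      induction z using TensorProduct.induction_on with
      | zero => simp
      | tmul x y =>
        simp [antipodeB] <;> rfl
      | add x y hx hy => simp only [map_add, Subalgebra.coe_add, hx, hy]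
    simp [AlgHom.comp_apply, h, j_comulB]

/-- The Hopf algebra structure of a sub-Hopf-algebra over a field. -/
@[implicit_reducible]
noncomputable def hopfAlgebra : HopfAlgebra k B :=
  letI : Bialgebra k B :=
    Bialgebra.ofAlgHom (comulB hB) (counitB B) (coassocB hB) (rTensorB hB) (lTensorB hB)
  HopfAlgebra.ofAlgHom (antipodeB hB) (antipode_axioms hB).1 (antipode_axioms hB).2

/-- The inclusion as a bialgebra map. -/
noncomputable def inclBialg :
    letI := hopfAlgebra hB
    B →ₐc[k] A :=
  letI := hopfAlgebra hB
  BialgHom.ofAlgHom B.val rfl (AlgHom.ext fun b => j_comulB hB b)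

theorem inclBialg_apply (b : B) : (letI := hopfAlgebra hB; inclBialg hB b) = (b : A) := rfl

end Groth.L08.SubHopf
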